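import Cfsg.Agent.Lib.MTwelveOrder.Eleven
import Cfsg.Agent.Lib.Small.BrauerTuanTools

/-!
Facts about the principal 11-block of a simple group of order 95040: the characters outside it,
rationality, the relation coming from the absence of an involution inverting an element of order 11,
and the tools for elements centralising an element of order 5.
-/

set_option autoImplicit false
set_option linter.style.haveILetI false
set_option linter.unusedSectionVars false

namespace Cfsg.Lib.MTwelveOrder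

open Cfsg Cfsg.Lib.Char Cfsg.Lib.Block
open scoped ComplexConjugate

universe u

local instance fact_eleven_facts : Fact (Nat.Prime 11) := ⟨by norm_num⟩
local instance fact_five_facts : Fact (Nat.Prime 5) := ⟨by norm_num⟩
local instance fact_three_facts : Fact (Nat.Prime 3) := ⟨by norm_num⟩

/-- The principal 11-block data. -/
structure Eleven (G : Type u) [Group G] [Fintype G] where
  /-- a Sylow 11-subgroup -/
  P : Sylow 11 G
  /-- its block -/
  S : Small.Shape P 5
  cent : Nat.card (Subgroup.centralizer ((P : Subgroup G) : Set G)) = 11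
  count : Nat.card (Sylow 11 G) = 1728

variable {G : Type u} [Group G] [Fintype G] (hG : IsM12 G)

include hG

theorem nonempty_eleven : Nonempty (Eleven G) := by
  obtain ⟨P, ⟨S⟩, h1, h2⟩ := eleven_data hG
  exact ⟨⟨P, S, h1, h2⟩⟩

variable (E : Eleven G)

theorem exists_x : ∃ x ∈ (E.P : Subgroup G), x ≠ 1 ∧ orderOf x = 11 := by
  haveI : Nontrivial (E.P : Subgroup G) := by
    rw [← Finite.one_lt_card_iff_nontrivial, E.S.card_P]; norm_num
  obtain ⟨⟨x, hx⟩, hx1'⟩ := exists_ne (1 : (E.P : Subgroup G))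
  have hx1 : x ≠ 1 := fun h => hx1' (Subtype.ext h)
  exact ⟨x, hx, hx1, by rw [← Nat.card_zpowers, Small.zpowers_eq_of_prime_card E.S.card_P hx hx1, E.S.card_P]⟩

/-- A character outside the block has degree divisible by 11. -/
theorem dvd_of_outside {χ : IrrCharacter G} (hX : χ ∉ E.S.X) (hY : χ ∉ E.S.Y) : 11 ∣ cdeg χ := by
  haveI := hG.1
  obtain ⟨x, hx, hx1, hxo⟩ := exists_x hG E
  have h0 := Small.BrauerTuan.apply_eq_zero_of_outside E.S E.cent hx hx1 (χ := χ)
    (fun h => ((E.S.mem_block χ).1 h).elim hX hY)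
  have := MEleven.int_modEq_deg (p := 11) χ (g := x) (k := 1) (by rw [hxo, pow_one]) (m := 0) (by rw [h0, Int.cast_zero])
  rw [zero_sub, Int.dvd_neg, Int.natCast_dvd_natCast] at this
  exact this

/-- A regular element has the same value under all characters of the degree of `χ` when no other
member of the block has that degree. -/
theorem same_of_degree {χ : IrrCharacter G} (hχ : χ ∈ E.S.Z)
    (huniq : ∀ φ ∈ E.S.Z, cdeg φ = cdeg χ → φ = χ) {g : G} (hg : ¬ 11 ∣ orderOf g)
    (ψ : IrrCharacter G) (hd : cdeg ψ = cdeg χ) : (ψ : G → ℂ) g = (χ : G → ℂ) g := by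
  classical
  by_cases hY : ψ ∈ E.S.Y
  · have h1 := E.S.agree ψ hY g hg
    have h2 := E.S.agree ψ hY 1 (by rw [orderOf_one]; norm_num)
    have hdθ : cdeg E.S.θ = cdeg χ := by
      rw [apply_one, apply_one, Nat.cast_inj] at h2
      rw [← h2, hd]
    rw [h1, huniq _ (E.S.mem_Z.2 (Or.inl rfl)) hdθ]
  by_cases hX : ψ ∈ E.S.X
  · rw [huniq ψ (E.S.mem_Z.2 (Or.inr hX)) hd]
  exact absurd (hd ▸ dvd_of_outside hG E hX hY) (E.S.not_dvd_deg hχ)

/-- Integer values of a member of unique degree. -/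
theorem rational_unique {χ : IrrCharacter G} (hχ : χ ∈ E.S.Z)
    (huniq : ∀ φ ∈ E.S.Z, cdeg φ = cdeg χ → φ = χ) {g : G} (hg : ¬ 11 ∣ orderOf g) :
    ∃ m : ℤ, (χ : G → ℂ) g = m :=
  rational_of_degree fun ψ hd => same_of_degree hG E hχ huniq hg ψ hd

/-- Values of a member of unique degree are invariant under coprime powers. -/
theorem pow_invariant_unique {χ : IrrCharacter G} (hχ : χ ∈ E.S.Z)
    (huniq : ∀ φ ∈ E.S.Z, cdeg φ = cdeg χ → φ = χ) {g : G} (hg : ¬ 11 ∣ orderOf g) {k : ℕ}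
    (hk : k.Coprime (Nat.card G)) : (χ : G → ℂ) (g ^ k) = (χ : G → ℂ) g := by
  let ψ : IrrCharacter G := ⟨_, isIrrCharacter_comp_pow hk χ.2⟩
  refine same_of_degree hG E hχ huniq hg ψ ?_
  have e := apply_one ψ
  have e' : (ψ : G → ℂ) 1 = (χ : G → ℂ) (1 ^ k) := rfl
  rw [e', one_pow, apply_one] at e
  exact_mod_cast e.symm

theorem card_normalizer_P : Nat.card (Subgroup.normalizer ((E.P : Subgroup G) : Set G)) = 55 := by
  have h := Small.card_normalizer_mul E.P
  rw [E.count, hG.2] at h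
  omega

/-- No element of order 11 is a product of two involutions, so the block gives a relation between the
values at any two involutions. -/
theorem involution_relation {a b : G} (ha : orderOf a = 2) (hb : orderOf b = 2) :
    ∑ χ ∈ E.S.Z, (E.S.σ χ : ℂ) * ((χ : G → ℂ) a * (χ : G → ℂ) b / (χ : G → ℂ) 1) = 0 := by
  classical
  haveI := hG.1
  obtain ⟨x, hx, hx1, hxo⟩ := exists_x hG E
  have h := E.S.formula E.cent (a := a) (b := b) (x := x) (by rw [ha]; norm_num) (by rw [hb]; norm_num) hx hx1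
  have hempty : ((classFinset a ×ˢ classFinset b).filter fun q => q.1 * q.2 = x) = ∅ := by
    rw [Finset.filter_eq_empty_iff]
    rintro ⟨a', b'⟩ hq e
    obtain ⟨ha', hb'⟩ := Finset.mem_product.1 hq
    rw [mem_classFinset] at ha' hb'
    dsimp only at ha' hb' e
    obtain ⟨c, hc⟩ := isConj_iff.1 ha'
    obtain ⟨c', hc'⟩ := isConj_iff.1 hb'
    have ha2 : orderOf a' = 2 := by rw [← hc, ← MulAut.conj_apply, MulEquiv.orderOf_eq, ha]
    have hb2 : orderOf b' = 2 := by rw [← hc', ← MulAut.conj_apply, MulEquiv.orderOf_eq, hb]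
    have ea : a'⁻¹ = a' := inv_eq_of_mul_eq_one_right (by rw [← pow_two, ← ha2, pow_orderOf_eq_one])
    have eb : b'⁻¹ = b' := inv_eq_of_mul_eq_one_right (by rw [← pow_two, ← hb2, pow_orderOf_eq_one])
    have hinv : a' * x * a'⁻¹ = x⁻¹ := by
      rw [← e, mul_inv_rev, eb, ea]
      calc a' * (a' * b') * a' = a'⁻¹ * (a' * b') * a' := by rw [ea]
        _ = b' * a' := by group
    have hN : a' ∈ Subgroup.normalizer ((E.P : Subgroup G) : Set G) := by
      rw [← Small.zpowers_eq_of_prime_card E.S.card_P hx hx1]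
      refine Subgroup.mem_normalizer_fintype fun k hk => ?_
      obtain ⟨i, rfl⟩ := Subgroup.mem_zpowers_iff.1 hk
      show a' * x ^ i * a'⁻¹ ∈ Subgroup.zpowers x
      rw [← conj_zpow, hinv]
      exact zpow_mem (inv_mem (Subgroup.mem_zpowers x)) i
    have h2 := Subgroup.orderOf_dvd_natCard _ hN
    rw [card_normalizer_P hG E, ha2] at h2
    norm_num at h2
  rw [hempty, Finset.card_empty, Nat.cast_zero, eq_comm, mul_eq_zero] at h
  refine h.resolve_left (div_ne_zero (mul_ne_zero ?_ ?_) (card_cast_ne_zero (G := G))) <;>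
    exact Nat.cast_ne_zero.2 (Finset.card_pos.2 ⟨_, mem_classFinset.2 (IsConj.refl _)⟩).ne'

/-- The number of pairs of conjugates of `a`, `b` with product a fixed element of order 11, as a
formula. -/
theorem pair_count {a b : G} (ha : ¬ 11 ∣ orderOf a) (hb : ¬ 11 ∣ orderOf b) :
    ∃ n : ℕ, (n : ℂ) * ((Nat.card (Subgroup.centralizer ({a} : Set G)) : ℕ) : ℂ) *
        ((Nat.card (Subgroup.centralizer ({b} : Set G)) : ℕ) : ℂ) =
      (Nat.card G : ℂ) * ∑ χ ∈ E.S.Z, (E.S.σ χ : ℂ) * ((χ : G → ℂ) a * (χ : G → ℂ) b / (χ : G → ℂ) 1) := by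
  classical
  haveI := hG.1
  obtain ⟨x, hx, hx1, hxo⟩ := exists_x hG E
  have h := E.S.formula E.cent (a := a) (b := b) (x := x) ha hb hx hx1
  refine ⟨((classFinset a ×ˢ classFinset b).filter fun q => q.1 * q.2 = x).card, ?_⟩
  rw [h, card_classFinset, card_classFinset]
  have hIa := congrArg (Nat.cast (R := ℂ)) (Subgroup.card_mul_index (Subgroup.centralizer ({a} : Set G)))
  have hIb := congrArg (Nat.cast (R := ℂ)) (Subgroup.card_mul_index (Subgroup.centralizer ({b} : Set G)))
  push_cast at hIa hIb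
  have hN : (Nat.card G : ℂ) ≠ 0 := card_cast_ne_zero
  field_simp
  rw [pow_two]
  nth_rewrite 1 [← hIa]
  rw [← hIb]
  ring

omit hG in
/-- A rational value at an element of order 3 is at least minus half the degree. -/
theorem order_three_value (χ : IrrCharacter G) {s : G} (hs : orderOf s = 3) {m : ℤ}
    (hm : (χ : G → ℂ) s = m) : (3 : ℤ) ∣ (cdeg χ : ℤ) - m ∧ -(cdeg χ : ℤ) ≤ 2 * m := by
  refine ⟨by
    have := MEleven.int_modEq_deg (p := 3) χ (k := 1) (by rw [hs, pow_one]) hm
    rwa [← Int.dvd_neg, neg_sub] at this, ?_⟩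
  obtain ⟨n, ρ, -, hρ⟩ := χ.2
  obtain ⟨b, μ, hb, hμ⟩ := exists_eigenbasis ρ s
  rw [hs] at hμ
  have hre : ∀ i, -(1 / 2 : ℝ) ≤ (μ i).re := by
    intro i
    by_cases h1 : μ i = 1
    · rw [h1, Complex.one_re]; norm_num
    · have h0 : μ i ^ 2 + μ i + 1 = 0 := mul_left_cancel₀ (sub_ne_zero.2 h1) (by
        have := hμ i
        linear_combination this)
      have hn : ‖μ i‖ = 1 := Complex.norm_eq_one_of_pow_eq_one (hμ i) (by norm_num)
      have h2 : μ i * (starRingEnd ℂ) (μ i) = 1 := by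
        rw [Complex.mul_conj', hn]; norm_num
      have h3 : (starRingEnd ℂ) (μ i) = μ i ^ 2 :=
        mul_left_cancel₀ (fun e : μ i = 0 => by have h := hμ i; rw [e, zero_pow (by norm_num)] at h; exact zero_ne_one h)
          (by rw [h2, ← pow_succ', hμ i])
      have h4 : μ i + (starRingEnd ℂ) (μ i) = -1 := by rw [h3]; linear_combination h0
      have h5 := congrArg Complex.re h4
      rw [Complex.add_re, Complex.conj_re, Complex.neg_re, Complex.one_re] at h5
      linarith
  have hd : Fintype.card (Fin (Module.finrank ℂ (Fin n → ℂ))) = cdeg χ := by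
    have h := (congrFun hρ 1).trans (apply_one χ)
    rw [Representation.char_one] at h
    rw [Fintype.card_fin]
    exact_mod_cast h
  have hval : (m : ℂ) = ∑ i, μ i := by
    rw [← hm, ← congrFun hρ s]
    exact trace_eq_sum_of_eigenbasis _ b μ hb
  have h6 := congrArg Complex.re hval
  rw [Complex.intCast_re, Complex.re_sum] at h6
  have h7 : ∑ _i : Fin (Module.finrank ℂ (Fin n → ℂ)), -(1 / 2 : ℝ) ≤ ∑ i, (μ i).re :=
    Finset.sum_le_sum fun i _ => hre i
  rw [Finset.sum_const, Finset.card_univ, hd, nsmul_eq_mul, ← h6] at h7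
  have : -((cdeg χ : ℤ) : ℝ) ≤ ((2 * m : ℤ) : ℝ) := by push_cast; linarith
  exact_mod_cast this

/-- A character of degree divisible by 5 is divisible by 5 at an element centralising one of order 5. -/
theorem five_integral {χ : IrrCharacter G} (h5 : 5 ∣ cdeg χ) {q v : G} (hq : orderOf q = 5)
    (hc : Commute q v) (hv : ¬ 5 ∣ orderOf v) : IsIntegral ℤ ((χ : G → ℂ) v / 5) := by
  classical
  haveI := Fintype.ofFinite (Subgroup.zpowers q)
  have hfact : (cdeg χ).factorization 5 = (Nat.card G).factorization 5 := by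
    have h1 : (Nat.card G).factorization 5 = 1 := by
      rw [hG.2, show (95040 : ℕ) = 5 ^ 1 * 19008 by norm_num, Nat.factorization_mul (by norm_num) (by norm_num),
        Nat.Prime.factorization_pow (by norm_num), Finsupp.add_apply, Finsupp.single_eq_same,
        Nat.factorization_eq_zero_of_not_dvd (by norm_num : ¬ 5 ∣ 19008)]
    rw [h1]
    refine le_antisymm ?_ (((Fact.out : Nat.Prime 5).dvd_iff_one_le_factorization (Block.charDegree_pos χ).ne').1 h5)
    rw [← h1]
    exact Nat.factorization_le_iff_dvd (Block.charDegree_pos χ).ne' Nat.card_pos.ne' |>.2 (Block.charDegree_dvd_card χ) 5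
  have hcomm : ∀ w ∈ Subgroup.zpowers q, v * w = w * v := fun w hw => by
    obtain ⟨i, rfl⟩ := mem_powers_iff_mem_zpowers.2 hw
    exact (hc.pow_left i).symm
  have h := isIntegral_avg_of_commute χ.2.isCharacter (Subgroup.zpowers q) hcomm
  rw [Finset.sum_eq_single (1 : Subgroup.zpowers q) (fun w _ hw => ?_) (by simp), OneMemClass.coe_one,
    mul_one, Nat.card_zpowers, hq] at h
  · exact_mod_cast h
  · refine MEleven.apply_eq_zero_of_defectZero χ hfact ?_
    obtain ⟨i, hi⟩ := mem_powers_iff_mem_zpowers.2 w.2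
    change q ^ i = (w : G) at hi
    rw [← hi, ((hc.pow_left i).symm).eq]
    have hi5 : ¬ 5 ∣ i := fun hd => hw (Subtype.ext (by
      rw [← hi, ← Nat.mul_div_cancel' hd, pow_mul, ← hq, pow_orderOf_eq_one, one_pow, OneMemClass.coe_one]))
    have hord : orderOf (q ^ i) = 5 := by
      refine orderOf_eq_prime (by rw [← pow_mul, mul_comm, pow_mul, ← hq, pow_orderOf_eq_one, one_pow])
        fun e => hi5 ?_
      rw [← hq]; exact orderOf_dvd_of_pow_eq_one e
    rw [(hc.pow_left i).orderOf_mul_eq_mul_orderOf_of_coprime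
      (by rw [hord]; exact (Fact.out : Nat.Prime 5).coprime_iff_not_dvd.2 hv), hord]
    exact dvd_mul_right _ _

theorem five_dvd_value {χ : IrrCharacter G} (h5 : 5 ∣ cdeg χ) {q v : G} (hq : orderOf q = 5)
    (hc : Commute q v) (hv : ¬ 5 ∣ orderOf v) {m : ℤ} (hm : (χ : G → ℂ) v = m) : (5 : ℤ) ∣ m := by
  have h := five_integral hG h5 hq hc hv
  rw [hm] at h
  obtain ⟨z, hz⟩ := exists_int_of_isIntegral_rat (q := (m : ℚ) / 5) (by push_cast; exact h)
  refine ⟨z, ?_⟩
  rw [div_eq_iff (by norm_num)] at hz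
  have : (m : ℚ) = ((5 * z : ℤ) : ℚ) := by push_cast; linarith
  exact_mod_cast this

/-- An element of order 5 centralised by an involution or by a subgroup of order 9. -/
theorem exists_five : ∃ q : G, orderOf q = 5 ∧
    ((∃ z : G, orderOf z = 2 ∧ Commute q z) ∨
      ∃ W : Subgroup G, Nat.card W = 9 ∧ ∀ w ∈ W, Commute q w) := by
  classical
  haveI := hG.1
  obtain ⟨P, e, c, n, -, hC, hnec, hn1, -, he2, hed, -⟩ :=
    Small.block_setup (p := 5) (G := G) (m := 19008) (by norm_num) hG.2 (by norm_num) (by norm_num)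
  have hP : Nat.card (P : Subgroup G) = 5 := by
    rw [Small.card_sylow 1 19008 (by rw [pow_one]; exact hG.2) (by norm_num) P, pow_one]
  haveI : Nontrivial (P : Subgroup G) := by rw [← Finite.one_lt_card_iff_nontrivial, hP]; norm_num
  obtain ⟨⟨q, hqP⟩, hq1'⟩ := exists_ne (1 : (P : Subgroup G))
  have hq1 : q ≠ 1 := fun h => hq1' (Subtype.ext h)
  have hq : orderOf q = 5 := by rw [← Nat.card_zpowers, Small.zpowers_eq_of_prime_card hP hqP hq1, hP]
  have hcomm : ∀ w ∈ Subgroup.centralizer ((P : Subgroup G) : Set G), Commute q w := fun w hw =>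
    Subgroup.mem_centralizer_iff.1 hw q hqP
  refine ⟨q, hq, ?_⟩
  by_cases h2 : 2 ∣ c
  · obtain ⟨⟨z, hz⟩, hz2⟩ := exists_prime_orderOf_dvd_card' 2
      (show 2 ∣ Nat.card (Subgroup.centralizer ((P : Subgroup G) : Set G)) from hC ▸ dvd_mul_of_dvd_right h2 5)
    rw [Subgroup.orderOf_mk] at hz2
    exact Or.inl ⟨z, hz2, hcomm z hz⟩
  have h11 : ¬ 11 ∣ c := by
    intro h
    obtain ⟨⟨z, hz⟩, hz11⟩ := exists_prime_orderOf_dvd_card' 11
      (show 11 ∣ Nat.card (Subgroup.centralizer ((P : Subgroup G) : Set G)) from hC ▸ dvd_mul_of_dvd_right h 5)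
    rw [Subgroup.orderOf_mk] at hz11
    obtain ⟨E⟩ := nonempty_eleven hG
    obtain ⟨Q, hQ⟩ := Small.exists_sylow_eq_zpowers (card_sylow_eleven hG) hz11
    obtain ⟨g, hg⟩ := MulAction.exists_smul_eq G Q E.P
    have hqc : g * q * g⁻¹ ∈ Subgroup.centralizer ((E.P : Subgroup G) : Set G) := by
      rw [Subgroup.mem_centralizer_iff]
      intro y hy
      rw [← hg, Sylow.coe_subgroup_smul, hQ] at hy
      obtain ⟨y', hy', rfl⟩ := hy
      obtain ⟨k, rfl⟩ := Subgroup.mem_zpowers_iff.1 hy'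
      show g * z ^ k * g⁻¹ * (g * q * g⁻¹) = g * q * g⁻¹ * (g * z ^ k * g⁻¹)
      have h' := ((hcomm z hz).zpow_right k).eq
      calc g * z ^ k * g⁻¹ * (g * q * g⁻¹) = g * (z ^ k * q) * g⁻¹ := by group
        _ = g * (q * z ^ k) * g⁻¹ := by rw [h']
        _ = _ := by group
    have := Subgroup.orderOf_dvd_natCard _ hqc
    rw [E.cent, ← MulAut.conj_apply, MulEquiv.orderOf_eq, hq] at this
    norm_num at this
  have hc27 : c ∈ (Nat.divisors 19008).filter (fun c => ¬ 2 ∣ c ∧ ¬ 11 ∣ c) :=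
    Finset.mem_filter.2 ⟨Nat.mem_divisors.2 ⟨⟨n * e, by rw [← hnec]; ring⟩, by norm_num⟩, h2, h11⟩
  rw [show (Nat.divisors 19008).filter (fun c => ¬ 2 ∣ c ∧ ¬ 11 ∣ c) = {1, 3, 9, 27} by decide +kernel] at hc27
  simp only [Finset.mem_insert, Finset.mem_singleton] at hc27
  have he : e = 2 ∨ e = 4 := by
    have := Nat.le_of_dvd (by norm_num) hed
    interval_cases e <;> simp_all
  have h9 : 3 ^ 2 ∣ Nat.card (Subgroup.centralizer ((P : Subgroup G) : Set G)) := by
    rw [hC]
    rcases he with rfl | rfl <;> rcases hc27 with rfl | rfl | rfl | rfl <;> omega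
  obtain ⟨W, hW⟩ := Sylow.exists_subgroup_card_pow_prime 3 h9
  refine Or.inr ⟨W.map (Subgroup.centralizer ((P : Subgroup G) : Set G)).subtype, ?_, ?_⟩
  · rw [Subgroup.card_map_of_injective (Subgroup.subtype_injective _), hW]; norm_num
  · rintro _ ⟨w, -, rfl⟩
    exact hcomm _ w.2

omit hG in
/-- An element of order 3 has centraliser of order divisible by 9 when 27 divides the group order. -/
theorem nine_dvd_centralizer (h27 : 3 ^ 3 ∣ Nat.card G) {s : G} (hs : orderOf s = 3) :
    9 ∣ Nat.card (Subgroup.centralizer ({s} : Set G)) := by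
  obtain ⟨K, hK, hle⟩ := Sylow.exists_subgroup_card_pow_succ (G := G) (p := 3) (n := 1)
    ((pow_dvd_pow 3 (by norm_num)).trans h27) (H := Subgroup.zpowers s) (by rw [Nat.card_zpowers, hs, pow_one])
  haveI : IsMulCommutative K := IsPGroup.isMulCommutative_of_card_eq_prime_sq (p := 3) (by rw [hK])
  have hKC : K ≤ Subgroup.centralizer ({s} : Set G) := fun k hk => Subgroup.mem_centralizer_singleton_iff.2
    (congrArg Subtype.val (mul_comm' (⟨k, hk⟩ : K) ⟨s, hle (Subgroup.mem_zpowers s)⟩))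
  exact ((dvd_of_eq (by norm_num : (9 : ℕ) = 3 ^ (1 + 1))).trans hK.symm.dvd).trans (Subgroup.card_dvd_of_le hKC)

/-- A rational character whose values at the elements of order 3 of a subgroup of order 9 are all `c`
needs `9 ∣ d + 8 c` or `9 ∣ d - c`. -/
theorem nine_false {χ : IrrCharacter G} (hχ : χ ∈ E.S.Z) (huniq : ∀ φ ∈ E.S.Z, cdeg φ = cdeg χ → φ = χ)
    {W : Subgroup G} (hW : Nat.card W = 9) {c : ℤ} (hc : ∀ s ∈ W, orderOf s = 3 → (χ : G → ℂ) s = c)
    (h1 : ¬ (9 : ℤ) ∣ (cdeg χ : ℤ) + 8 * c) (h2 : ¬ (9 : ℤ) ∣ (cdeg χ : ℤ) - c) : False := by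
  classical
  by_cases hex : ∀ w ∈ W, w ≠ 1 → orderOf w = 3
  · haveI := Fintype.ofFinite W
    obtain ⟨n, hn⟩ := MEleven.exists_nat_sum χ W
    rw [← Finset.add_sum_erase _ _ (Finset.mem_univ (1 : W)), OneMemClass.coe_one, apply_one,
      Finset.sum_congr rfl (fun w hw => hc _ w.2 (hex _ w.2 (fun e => (Finset.mem_erase.1 hw).1 (Subtype.ext e)))),
      Finset.sum_const, Finset.card_erase_of_mem (Finset.mem_univ _), Finset.card_univ,
      ← Nat.card_eq_fintype_card, hW, nsmul_eq_mul] at hn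
    refine h1 ⟨n, ?_⟩
    apply Int.cast_injective (α := ℂ)
    push_cast at hn ⊢
    linear_combination hn
  push Not at hex
  obtain ⟨y, hyW, hy1, hy3⟩ := hex
  have hy9 : orderOf y = 9 := by
    have hd : orderOf y ∣ 3 ^ 2 := by
      have := Subgroup.orderOf_dvd_natCard _ hyW
      rwa [hW] at this
    obtain ⟨j, hj, hjy⟩ := (Nat.dvd_prime_pow (by norm_num)).1 hd
    interval_cases j
    · exact absurd (orderOf_eq_one_iff.1 (by rw [hjy, pow_zero])) hy1
    · exact absurd (by rw [hjy, pow_one]) hy3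
    · rw [hjy]; norm_num
  have hreg : ¬ 11 ∣ orderOf y := by rw [hy9]; norm_num
  obtain ⟨a, ha⟩ := rational_unique hG E hχ huniq hreg
  have hpow : ∀ i ∈ ([1, 2, 4, 5, 7, 8] : List ℕ), (χ : G → ℂ) (y ^ i) = a := by
    intro i hi
    have key : ∀ k : ℕ, k.Coprime 95040 → k % 9 = i → (χ : G → ℂ) (y ^ i) = a := by
      intro k hk hki
      rw [← hki, ← hy9, pow_mod_orderOf]
      rw [pow_invariant_unique hG E hχ huniq hreg (by rw [hG.2]; exact hk), ha]
    fin_cases hi
    · exact key 1 (by norm_num) rfl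
    · exact key 29 (by norm_num) rfl
    · exact key 13 (by norm_num) rfl
    · exact key 23 (by norm_num) rfl
    · exact key 7 (by norm_num) rfl
    · exact key 17 (by norm_num) rfl
  have hcube : ∀ i ∈ ([3, 6] : List ℕ), (χ : G → ℂ) (y ^ i) = c := by
    intro i hi
    refine hc _ (pow_mem hyW i) ?_
    rw [orderOf_pow, hy9]
    fin_cases hi <;> norm_num
  obtain ⟨n, ρ, -, hρ⟩ := χ.2
  obtain ⟨b, μ, hb, hμ⟩ := exists_eigenbasis ρ y
  rw [hy9] at hμ
  have hval : ∀ i : ℕ, (χ : G → ℂ) (y ^ i) = ∑ j, μ j ^ i := by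
    intro i
    have hp' : ∀ (k : ℕ) j, ρ (y ^ k) (b j) = μ j ^ k • b j := by
      intro k j
      induction k with
      | zero => simp
      | succ k ih => rw [pow_succ, map_mul, Module.End.mul_apply, hb, map_smul, ih, smul_smul, pow_succ']
    rw [← congrFun hρ (y ^ i)]
    exact trace_eq_sum_of_eigenbasis _ b _ (hp' i)
  obtain ⟨ν, hν⟩ : ∃ ν : ℂ, IsPrimitiveRoot ν 9 := ⟨_, Complex.isPrimitiveRoot_exp 9 (by norm_num)⟩
  have hsum := Small.sum_pow_inv_mul μ hμ hν.pow_eq_one
  simp only [← hval] at hsum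
  have hg9 : ∑ i ∈ Finset.range 9, (ν⁻¹) ^ i = 0 := (hν.inv).geom_sum_eq_zero (by norm_num)
  have hg3 : 1 + (ν⁻¹) ^ 3 + (ν⁻¹) ^ 6 = 0 := by
    have := ((hν.inv).pow (show 0 < 9 by norm_num) (show 9 = 3 * 3 by norm_num)).geom_sum_eq_zero (by norm_num)
    rw [Finset.sum_range_succ, Finset.sum_range_succ, Finset.sum_range_one, pow_zero, pow_one, ← pow_mul] at this
    exact this
  simp only [Finset.sum_range_succ, Finset.sum_range_zero, zero_add] at hsum hg9
  rw [pow_zero, pow_zero, apply_one, hpow 1 (by simp), hpow 2 (by simp), hcube 3 (by simp), hpow 4 (by simp),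
    hpow 5 (by simp), hcube 6 (by simp), hpow 7 (by simp), hpow 8 (by simp)] at hsum
  refine h2 ⟨((Finset.univ.filter fun j => μ j = ν).card : ℤ), ?_⟩
  apply Int.cast_injective (α := ℂ)
  push_cast
  linear_combination hsum - (a : ℂ) * hg9 + ((a : ℂ) - c) * hg3

end Cfsg.Lib.MTwelveOrder
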