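import Cfsg.Agent.Lib.MTwelveOrder.Extraspecial
import Cfsg.Agent.Lib.Concrete.SporMathieu
import Cfsg.Agent.Lib.NseMathieu.Basic
import Cfsg.Agent.S3344

/-!
A simple group of order 95040 is the Mathieu group of degree 12; so is a group with that order and
the same element-order counts.
-/

set_option autoImplicit false
set_option linter.style.haveILetI false
set_option linter.unusedSectionVars false
set_option maxRecDepth 100000

namespace Cfsg.Lib.MTwelveOrder

open Cfsg
open Subgroup (centralizer zpowers)

universe u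

local instance fact_three_main : Fact (Nat.Prime 3) := ⟨by norm_num⟩
local instance fact_eleven_main : Fact (Nat.Prime 11) := ⟨by norm_num⟩

theorem isoM12_of_isM12 {G : Type u} [Group G] [Finite G] (hG : IsM12 G) : Cfsg.Spor.IsoM12 G := by
  classical
  haveI := Fintype.ofFinite G
  haveI := hG.1
  obtain ⟨t, ht⟩ := exists_central hG
  obtain ⟨-, ⟨e⟩⟩ := central_shape hG ht
  set L := centralizer ({t} : Set G) with hL
  obtain ⟨X⟩ : Nonempty (Sylow 3 L) := inferInstance
  have hX : Nat.card (X : Subgroup L) = 3 := by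
    rw [Small.card_sylow 1 64 (by rw [ht.card]; norm_num) (by norm_num) X, pow_one]
  haveI : Nontrivial (X : Subgroup L) := by rw [← Finite.one_lt_card_iff_nontrivial, hX]; norm_num
  obtain ⟨⟨s, hsX⟩, hs1'⟩ := exists_ne (1 : (X : Subgroup L))
  have hs1 : s ≠ 1 := fun h => hs1' (Subtype.ext h)
  have hXs := Small.zpowers_eq_of_prime_card hX hsX hs1
  have hs : orderOf (s : G) = 3 := by rw [Subgroup.orderOf_coe, ← Nat.card_zpowers, hXs, hX]
  have hts : Commute t (s : G) := (Subgroup.mem_centralizer_singleton_iff.1 s.2).symm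
  have hCQX : core t ⊓ centralizer (((X : Subgroup L).map L.subtype : Subgroup G) : Set G) = zpowers t := by
    refine le_antisymm (fun q hq => ?_) (Subgroup.zpowers_le.2 ⟨mem_core_self ht,
      Subgroup.mem_centralizer_iff.2 ?_⟩)
    · rcases fixed hG ht hs hts hq.1
        ((Subgroup.mem_centralizer_iff.1 hq.2) (s : G) ⟨s, hsX, rfl⟩) with h | h <;> rw [h]
      exacts [one_mem _, Subgroup.mem_zpowers t]
    · rintro _ ⟨y, -, rfl⟩
      exact Subgroup.mem_centralizer_singleton_iff.1 y.2
  rcases Cfsg.Agent.S3344.result t ht.ord L rfl (core t) rfl (core_extraspecial hG ht) (card_core hG ht) e X hCQX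
      (not_weakly_closed hG ht) with ⟨N, hN, -, -, h8, -⟩ | ⟨⟨e8⟩⟩ | ⟨⟨e9⟩⟩ | h
  · exfalso
    rcases hN.eq_bot_or_eq_top with h | h
    · rw [h, Subgroup.card_bot] at h8
      norm_num at h8
    · rw [h, Subgroup.card_top, hG.2] at h8
      norm_num at h8
  · exfalso
    have := Nat.card_congr e8.toEquiv
    rw [hG.2, nat_card_alternatingGroup, Nat.card_fin] at this
    norm_num [Nat.factorial] at this
  · exfalso
    have := Nat.card_congr e9.toEquiv
    rw [hG.2, nat_card_alternatingGroup, Nat.card_fin] at this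
    norm_num [Nat.factorial] at this
  · exact h

theorem isM12_sporM12 : IsM12 Spor.M12 := ⟨Lib.Concrete.isSimple_sporM12, Lib.Concrete.card_sporM12⟩

theorem pow_mod_check : ∀ r ∈ List.range 6, ∀ j ∈ List.range 7, 1 < r → 0 < j → r ^ j ∣ 8640 → r ^ j % 11 ≠ 1 := by
  decide +kernel

theorem isSimple_of_counts {G : Type u} [Group G] [Finite G] (hcard : Nat.card G = Nat.card Spor.M12)
    (hnse : NseMathieu.nse G = NseMathieu.nse Spor.M12) : IsSimpleGroup G := by
  classical
  haveI := Fintype.ofFinite Spor.M12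
  have hM := isM12_sporM12
  obtain ⟨E⟩ := nonempty_eleven hM
  obtain ⟨x, hx, hx1, hxo⟩ := exists_x hM E
  have hP := Small.zpowers_eq_of_prime_card E.S.card_P hx hx1
  refine NseMathieu.isSimple_of_nse (p := 11) (m := 8640) (e := 5) (by norm_num) (by norm_num) (by norm_num)
    (by norm_num) (by rw [hcard, Lib.Concrete.card_sporM12]) hcard.symm hnse ?_ ?_ hxo ?_ ?_ (by norm_num)
  · rw [Nat.totient_mul (by norm_num), Nat.totient_prime (by norm_num), Nat.totient_prime (by norm_num)]
    decide
  · intro r j hr hj hd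
    have hr5 : r ∣ 2 ^ 6 * (3 ^ 3 * 5) := (dvd_pow_self r hj.ne').trans (by norm_num; exact hd)
    have hr6 : r < 6 := by
      rcases hr.dvd_mul.1 hr5 with h | h
      · have := (Nat.prime_dvd_prime_iff_eq hr Nat.prime_two).1 (hr.dvd_of_dvd_pow h); omega
      rcases hr.dvd_mul.1 h with h | h
      · have := (Nat.prime_dvd_prime_iff_eq hr Nat.prime_three).1 (hr.dvd_of_dvd_pow h); omega
      · have := (Nat.prime_dvd_prime_iff_eq hr (by norm_num : Nat.Prime 5)).1 h; omega
    have hj7 : j < 14 := by
      by_contra hn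
      have := Nat.le_of_dvd (by norm_num) hd
      have h2 := (Nat.pow_le_pow_left hr.two_le j).trans' (Nat.pow_le_pow_right (by norm_num) (not_lt.1 hn))
      norm_num at h2
      omega
    by_cases hj' : j < 7
    · exact pow_mod_check r (List.mem_range.2 hr6) j (List.mem_range.2 hj') hr.one_lt hj hd
    · exfalso
      have h7 : r ^ 7 ∣ 8640 := (pow_dvd_pow r (not_lt.1 hj')).trans hd
      have := hr.two_le
      interval_cases r <;> norm_num at h7
  · rw [hP]
    have h := Subgroup.card_mul_index (Subgroup.normalizer ((E.P : Subgroup Spor.M12) : Set Spor.M12))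
    have hi : (Subgroup.normalizer ((E.P : Subgroup Spor.M12) : Set Spor.M12)).index = 1728 :=
      E.P.card_eq_index_normalizer.symm.trans E.count
    rw [hi, hM.2] at h
    omega
  · refine (Subgroup.eq_of_le_of_card_ge
      (Subgroup.zpowers_le.2 (Subgroup.mem_centralizer_singleton_iff.2 rfl)) ?_).symm
    rw [Nat.card_zpowers, hxo]
    refine (Nat.le_of_eq (?_ : _ = 11))
    rw [← Small.centralizer_zpowers, hP]
    exact E.cent

theorem isoM12_of_counts {G : Type u} [Group G] [Finite G] (hcard : Nat.card G = Nat.card Spor.M12)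
    (hnse : NseMathieu.nse G = NseMathieu.nse Spor.M12) : Nonempty (G ≃* Spor.M12) :=
  isoM12_of_isM12 ⟨isSimple_of_counts hcard hnse, hcard.trans Lib.Concrete.card_sporM12⟩

end Cfsg.Lib.MTwelveOrder
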