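import Mathlib.GroupTheory.SpecificGroups.Cyclic
import Mathlib.GroupTheory.PGroup
import Mathlib.GroupTheory.Perm.Cycle.Type
import Mathlib.Algebra.BigOperators.Ring.Finset
import Mathlib.Tactic

/-!
A group of order 16 with an automorphism of order 3 fixing only the identity is commutative; the
balance of squares in a 2-group with all commutators and squares in a central subgroup of order 2.
-/

set_option autoImplicit false
set_option linter.unusedSectionVars false

namespace Cfsg.Lib.MTwelveOrder

open Subgroup

universe u

/-- Counting modulo 3 the points of a set stable under a map of order dividing 3. -/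
theorem card_set_mod_three {α : Type u} [Finite α] (φ : α → α) (h3 : ∀ x, φ (φ (φ x)) = x) (H : Set α)
    (hH : ∀ x ∈ H, φ x ∈ H) (F : Finset α) (hF : ∀ x, x ∈ F ↔ x ∈ H ∧ φ x = x) :
    Nat.card H % 3 = F.card % 3 := by
  classical
  haveI : Fact (Nat.Prime 3) := ⟨Nat.prime_three⟩
  haveI := Fintype.ofFinite H
  let f : H → H := fun x => ⟨φ x, hH x x.2⟩
  let σ : Equiv.Perm H :=
    { toFun := f
      invFun := fun x => f (f x)
      left_inv := fun x => Subtype.ext (h3 x)
      right_inv := fun x => Subtype.ext (h3 x) }
  have hσ : σ ^ 3 ^ 1 = 1 := Equiv.ext fun x => Subtype.ext (h3 x)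
  have h := Equiv.Perm.card_compl_support_modEq hσ
  have e : σ.supportᶜ.map (Function.Embedding.subtype _) = F := by
    ext x
    simp only [Finset.mem_map, Finset.mem_compl, Equiv.Perm.mem_support, not_not,
      Function.Embedding.coe_subtype, hF]
    constructor
    · rintro ⟨y, hy, rfl⟩
      exact ⟨y.2, congrArg Subtype.val hy⟩
    · rintro ⟨hx, hfix⟩
      exact ⟨⟨x, hx⟩, Subtype.ext hfix, rfl⟩
  rw [Nat.card_eq_fintype_card, ← e, Finset.card_map]
  exact h.symm

/-- A group of order 16 with an automorphism of order 3 fixing only the identity is commutative. -/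
theorem commute_of_fixed_point_free {B : Type u} [Group B] [Finite B] (h16 : Nat.card B = 16) (φ : B ≃* B)
    (h3 : ∀ x, φ (φ (φ x)) = x) (hfix : ∀ x, φ x = x → x = 1) (a b : B) : Commute a b := by
  classical
  haveI : Fact (Nat.Prime 2) := ⟨Nat.prime_two⟩
  have hinj : Function.Injective fun x => x⁻¹ * φ x := by
    intro x y h
    have h' : φ (x * y⁻¹) = x * y⁻¹ := by
      rw [map_mul, map_inv, mul_inv_eq_iff_eq_mul, mul_assoc]
      exact inv_mul_eq_iff_eq_mul.1 h
    exact mul_inv_eq_one.1 (hfix _ h')
  have hnorm : ∀ y, y * φ y * φ (φ y) = 1 := by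
    intro y
    obtain ⟨x, rfl⟩ := (Finite.injective_iff_surjective.1 hinj) y
    simp only [map_mul, map_inv, h3]
    group
  have hcomm : ∀ y, Commute y (φ y) := by
    intro y
    have h1 := hnorm y
    have h2 := hnorm y⁻¹
    simp only [map_inv] at h2
    rw [mul_eq_one_iff_eq_inv] at h1 h2
    rw [inv_inv] at h2
    have h : (φ y * y)⁻¹ = (y * φ y)⁻¹ := by rw [h1, inv_inv, mul_inv_rev, h2]
    exact (inv_injective h).symm
  have hmod : ∀ H : Subgroup B, (∀ x ∈ H, φ x ∈ H) → Nat.card H % 3 = 1 := fun H hH =>
    card_set_mod_three φ h3 (H : Set B) hH {1} fun x => by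
      rw [Finset.mem_singleton]
      exact ⟨fun h => by subst h; exact ⟨one_mem H, map_one φ⟩, fun h => hfix x h.2⟩
  have hZinv : ∀ x ∈ center B, φ x ∈ center B := fun x hx => mem_center_iff.2 fun g => by
    have := congrArg φ (mem_center_iff.1 hx (φ.symm g))
    simpa using this
  have hpow : ∀ H : Subgroup B, ∃ k ≤ 4, Nat.card H = 2 ^ k := fun H =>
    (Nat.dvd_prime_pow Nat.prime_two).1 (by simpa [h16] using H.card_subgroup_dvd_card)
  haveI : Nontrivial B := Finite.one_lt_card_iff_nontrivial.1 (by rw [h16]; norm_num)
  have hZ : Nat.card (center B) = 4 ∨ Nat.card (center B) = 16 := by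
    obtain ⟨k, hk, hc⟩ := hpow (center B)
    have h1 : 1 < Nat.card (center B) := by
      haveI := (IsPGroup.of_card (n := 4) (by rw [h16]; norm_num) : IsPGroup 2 B).center_nontrivial
      exact Finite.one_lt_card_iff_nontrivial.2 inferInstance
    have h2 := hmod _ hZinv
    rw [hc] at h1 h2 ⊢
    interval_cases k <;> simp_all
  rcases hZ with hZ | hZ
  swap
  · have htop : center B = ⊤ := eq_top_of_card_eq _ (hZ.trans h16.symm)
    exact (mem_center_iff.1 (htop ▸ mem_top a) b).symm
  exfalso
  obtain ⟨x, hx⟩ : ∃ x, x ∉ center B := by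
    by_contra hno
    push Not at hno
    have : center B = ⊤ := eq_top_iff.2 fun x _ => hno x
    rw [this, Nat.card_congr topEquiv.toEquiv, h16] at hZ
    norm_num at hZ
  have key : ∀ y, y ∉ center B → Nat.card (centralizer ({y} : Set B)) = 8 ∧
      center B ⊔ zpowers y = centralizer ({y} : Set B) := by
    intro y hy
    have hle : center B ⊔ zpowers y ≤ centralizer ({y} : Set B) := sup_le (center_le_centralizer _)
      (zpowers_le.2 (mem_centralizer_singleton_iff.2 rfl))
    obtain ⟨j, hj, hjc⟩ := hpow (center B ⊔ zpowers y)
    obtain ⟨k, hk, hkc⟩ := hpow (centralizer ({y} : Set B))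
    have h4 : 4 < Nat.card (center B ⊔ zpowers y : Subgroup B) := by
      rw [← hZ]
      refine lt_of_le_of_ne (card_le_of_le le_sup_left) fun e => hy ?_
      rw [eq_of_le_of_card_ge le_sup_left e.ge]
      exact mem_sup_right (mem_zpowers y)
    have hlt : Nat.card (centralizer ({y} : Set B)) ≠ 16 := fun e => hy (mem_center_iff.2 fun g =>
      mem_centralizer_singleton_iff.1
        ((eq_top_of_card_eq _ (e.trans h16.symm) : centralizer ({y} : Set B) = ⊤) ▸ mem_top g))
    have hle' := card_le_of_le hle
    rw [hjc] at h4 hle'
    rw [hkc] at hlt hle' ⊢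
    have e3 : j = 3 ∧ k = 3 := by interval_cases j <;> interval_cases k <;> simp_all
    refine ⟨by rw [e3.2]; norm_num, eq_of_le_of_card_ge hle (le_of_eq ?_)⟩
    rw [hkc, hjc, e3.1, e3.2]
  have hx' : φ x ∉ center B := fun h => hx (by have := hZinv _ (hZinv _ h); rwa [h3] at this)
  obtain ⟨h8, hgen⟩ := key x hx
  obtain ⟨-, hgen'⟩ := key (φ x) hx'
  have hW : centralizer ({φ x} : Set B) = centralizer ({x} : Set B) := by
    refine eq_of_le_of_card_ge (hgen' ▸ sup_le (center_le_centralizer _) (zpowers_le.2
      (mem_centralizer_singleton_iff.2 (hcomm x).symm.eq))) (le_of_eq ?_)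
    rw [h8, (key _ hx').1]
  have hinv : ∀ y ∈ centralizer ({x} : Set B), φ y ∈ centralizer ({x} : Set B) := fun y hy => by
    rw [← hW]
    refine mem_centralizer_singleton_iff.2 ?_
    have := congrArg φ (mem_centralizer_singleton_iff.1 hy)
    simpa using this
  have := hmod _ hinv
  rw [h8] at this
  norm_num at this

section Squares

variable {T : Type u} [Group T] [Fintype T] {z : T}

open scoped Classical in
/-- The signed count of the elements of square one, for a group with all squares and commutators in a
central subgroup of order two equal to the centre. -/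
theorem sq_count (hz : orderOf z = 2) (hzc : ∀ b, Commute z b)
    (hcomm : ∀ a b : T, a * b * a⁻¹ * b⁻¹ = 1 ∨ a * b * a⁻¹ * b⁻¹ = z)
    (hsq : ∀ a : T, a * a = 1 ∨ a * a = z) (hcen : ∀ a, (∀ b, Commute a b) → a = 1 ∨ a = z) :
    (∑ a : T, if a * a = 1 then (1 : ℤ) else -1) ^ 2 = 2 * Fintype.card T := by
  classical
  have hz1 : z ≠ 1 := fun e => by rw [e, orderOf_one] at hz; norm_num at hz
  have hzz : z * z = 1 := by rw [← pow_two, ← hz, pow_orderOf_eq_one]
  set f : T → ℤ := fun a => if a * a = 1 then 1 else -1 with hf
  set c : T → T → ℤ := fun a b => if Commute a b then 1 else -1 with hc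
  -- the rule for a product
  have hprod : ∀ a b, f (a * b) = f a * f b * c a b := by
    intro a b
    have hba : b * a = (b * a * b⁻¹ * a⁻¹) * (a * b) := by group
    have hk : b * a * b⁻¹ * a⁻¹ = if Commute a b then 1 else z := by
      split_ifs with h
      · rw [h.symm.eq]; group
      · rcases hcomm b a with e | e
        · exact absurd (mul_inv_eq_iff_eq_mul.1 (mul_inv_eq_one.1 e)).symm h
        · exact e
    have e : (a * b) * (a * b) = (b * a * b⁻¹ * a⁻¹) * ((a * a) * (b * b)) := by
      have hkc : Commute a (b * a * b⁻¹ * a⁻¹) := by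
        rcases hcomm b a with e | e <;> rw [e]
        · exact Commute.one_right a
        · exact (hzc a).symm
      calc (a * b) * (a * b) = a * (b * a) * b := by group
        _ = a * ((b * a * b⁻¹ * a⁻¹) * (a * b)) * b := by rw [← hba]
        _ = (a * (b * a * b⁻¹ * a⁻¹)) * a * b * b := by group
        _ = _ := by rw [hkc.eq]; group
    simp only [hf, hc, e, hk]
    rcases hsq a with ha | ha <;> rcases hsq b with hb | hb <;> by_cases hab : Commute a b <;>
      simp [ha, hb, hab, hz1, hzz]
  have hff : ∀ a, f a * f a = 1 := fun a => by simp only [hf]; split_ifs <;> norm_num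
  -- the row of a central element and of any other
  have hrow : ∀ b, ∑ a, c a b = if b = 1 ∨ b = z then (Fintype.card T : ℤ) else 0 := by
    intro b
    split_ifs with h
    · have hb : ∀ a, Commute a b := fun a => by
        rcases h with rfl | rfl
        exacts [Commute.one_right a, (hzc a).symm]
      simp [hc, hb]
    · obtain ⟨x, hx⟩ : ∃ x, ¬ Commute b x := by
        by_contra hno
        push Not at hno
        exact h (hcen b hno)
      have key : ∀ a, c (x * a) b = - c a b := by
        intro a
        have hxb : x * b = z * (b * x) := by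
          rcases hcomm x b with e | e
          · exact absurd (mul_inv_eq_iff_eq_mul.1 (mul_inv_eq_one.1 e)).symm hx
          · rw [← e]; group
        by_cases hab : Commute a b
        · have : ¬ Commute (x * a) b := fun hh => hx (by
            have := hh.mul_left hab.inv_left
            rw [mul_inv_cancel_right] at this
            exact this.symm)
          simp [hc, hab, this]
        · have hab' : a * b = z * (b * a) := by
            rcases hcomm a b with e | e
            · exact absurd (mul_inv_eq_iff_eq_mul.1 (mul_inv_eq_one.1 e)) hab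
            · rw [← e]; group
          have : Commute (x * a) b := by
            show x * a * b = b * (x * a)
            calc x * a * b = x * (z * (b * a)) := by rw [mul_assoc, hab']
              _ = (x * z) * b * a := by group
              _ = z * (x * b) * a := by rw [← (hzc x).eq]; group
              _ = z * (z * (b * x)) * a := by rw [hxb]
              _ = z * z * (b * (x * a)) := by group
              _ = _ := by rw [hzz, one_mul]
          simp [hc, hab, this]
      have h2 : ∑ a, c a b = ∑ a, - c a b :=
        (Fintype.sum_equiv (Equiv.mulLeft x) (fun a => c (x * a) b) (fun a => c a b) fun a => rfl).symm.trans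
          (Finset.sum_congr rfl fun a _ => key a)
      rw [Finset.sum_neg_distrib] at h2
      omega
  calc (∑ a : T, f a) ^ 2 = ∑ a, ∑ b, f a * f b := by rw [pow_two, Finset.sum_mul_sum]
    _ = ∑ a, ∑ b, f a * f (a * b) := Finset.sum_congr rfl fun a _ =>
        (Fintype.sum_equiv (Equiv.mulLeft a) (fun b => f a * f (a * b)) (fun b => f a * f b) fun b => rfl).symm
    _ = ∑ b, f b * ∑ a, c a b := by
        rw [Finset.sum_comm]
        refine Finset.sum_congr rfl fun b _ => ?_
        rw [Finset.mul_sum]
        refine Finset.sum_congr rfl fun a _ => ?_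
        rw [hprod, ← mul_assoc, ← mul_assoc, hff, one_mul]
    _ = ∑ b ∈ ({1, z} : Finset T), (Fintype.card T : ℤ) := by
        rw [← Finset.sum_subset (Finset.subset_univ ({1, z} : Finset T)) (fun b _ hb => ?_)]
        · refine Finset.sum_congr rfl fun b hb => ?_
          simp only [Finset.mem_insert, Finset.mem_singleton] at hb
          rw [hrow, if_pos hb]
          rcases hb with rfl | rfl <;> simp [hf, hzz]
        · simp only [Finset.mem_insert, Finset.mem_singleton] at hb
          rw [hrow, if_neg hb, mul_zero]
    _ = _ := by rw [Finset.sum_pair hz1.symm]; ring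

end Squares

end Cfsg.Lib.MTwelveOrder
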