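import Mathlib

/-!
Exhaustive arithmetic for the principal 11-block of a simple group of order 95040: the signed degrees
and the integer columns at involutions and at elements of order 3.
-/

set_option autoImplicit false
set_option maxRecDepth 100000

namespace Cfsg.Lib.MTwelveOrder

/-- The signed degrees of the non-trivial members and of the exceptional pair, or a column. -/
abbrev Tup := ℤ × ℤ × ℤ × ℤ × ℤ

/-- Possible signed degrees of the non-exceptional members. -/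
def xVals : List ℤ := [-120, -54, -32, -10, 12, 45, 144]

/-- Possible signed degrees of the exceptional pair. -/
def tVals : List ℤ := [-192, -60, -27, -16, -5, 6, 72, 160, 270]

/-- The degree equation and the bound on the squares. -/
def DegOK (T : Tup) : Prop :=
  T.1 ≤ T.2.1 ∧ T.2.1 ≤ T.2.2.1 ∧ T.2.2.1 ≤ T.2.2.2.1 ∧
    1 + T.1 + T.2.1 + T.2.2.1 + T.2.2.2.1 + T.2.2.2.2 = 0 ∧
    1 + T.1 * T.1 + T.2.1 * T.2.1 + T.2.2.1 * T.2.2.1 + T.2.2.2.1 * T.2.2.2.1 +
      2 * (T.2.2.2.2 * T.2.2.2.2) ≤ 95040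

instance (T : Tup) : Decidable (DegOK T) := by unfold DegOK; infer_instance

/-- The possible signed degree lists. -/
def degCases : List Tup :=
  xVals.flatMap fun a => xVals.flatMap fun b => xVals.flatMap fun c => xVals.flatMap fun d =>
    tVals.filterMap fun t => if DegOK (a, b, c, d, t) then some (a, b, c, d, t) else none

theorem mem_degCases {a b c d t : ℤ} (ha : a ∈ xVals) (hb : b ∈ xVals) (hc : c ∈ xVals) (hd : d ∈ xVals)
    (ht : t ∈ tVals) (h : DegOK (a, b, c, d, t)) : (a, b, c, d, t) ∈ degCases := by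
  simp only [degCases, List.mem_flatMap, List.mem_filterMap]
  exact ⟨a, ha, b, hb, c, hc, d, hd, t, ht, by rw [if_pos h]⟩

/-- The sign of a signed degree. -/
def sgn (D : ℤ) : ℤ := if 0 < D then 1 else -1

/-- A single value: congruence to the degree, size, central character, and divisibility by 5. -/
def ValOK (m : ℕ) (C : ℕ) (five : Bool) (D v : ℤ) : Prop :=
  (m : ℤ) ∣ (D.natAbs : ℤ) - v ∧ v * v ≤ (C : ℤ) ∧ (D.natAbs : ℤ) ∣ ((95040 / C : ℕ) : ℤ) * v ∧
    (m = 3 → -(D.natAbs : ℤ) ≤ 2 * v) ∧ (v.natAbs < D.natAbs) ∧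
    (five = true → (5 : ℤ) ∣ (D.natAbs : ℤ) → (5 : ℤ) ∣ v)

instance (m C : ℕ) (five : Bool) (D v : ℤ) : Decidable (ValOK m C five D v) := by unfold ValOK; infer_instance

/-- A column with the block relation, the bound on the squares, and the Cauchy-Schwarz bound. -/
def ColOK (m C : ℕ) (five : Bool) (T V : Tup) : Prop :=
  ValOK m C five T.1 V.1 ∧ ValOK m C five T.2.1 V.2.1 ∧ ValOK m C five T.2.2.1 V.2.2.1 ∧
    ValOK m C five T.2.2.2.1 V.2.2.2.1 ∧ ValOK m C five T.2.2.2.2 V.2.2.2.2 ∧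
    1 + sgn T.1 * V.1 + sgn T.2.1 * V.2.1 + sgn T.2.2.1 * V.2.2.1 + sgn T.2.2.2.1 * V.2.2.2.1 +
      sgn T.2.2.2.2 * V.2.2.2.2 = 0 ∧
    1 + V.1 * V.1 + V.2.1 * V.2.1 + V.2.2.1 * V.2.2.1 + V.2.2.2.1 * V.2.2.2.1 +
      2 * (V.2.2.2.2 * V.2.2.2.2) ≤ (C : ℤ) ∧
    (1 + (T.1.natAbs : ℤ) * V.1 + (T.2.1.natAbs : ℤ) * V.2.1 + (T.2.2.1.natAbs : ℤ) * V.2.2.1 +
        (T.2.2.2.1.natAbs : ℤ) * V.2.2.2.1 + 2 * ((T.2.2.2.2.natAbs : ℤ) * V.2.2.2.2)) ^ 2 ≤
      (95040 - (1 + T.1 * T.1 + T.2.1 * T.2.1 + T.2.2.1 * T.2.2.1 + T.2.2.2.1 * T.2.2.2.1 +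
          2 * (T.2.2.2.2 * T.2.2.2.2))) *
        ((C : ℤ) - (1 + V.1 * V.1 + V.2.1 * V.2.1 + V.2.2.1 * V.2.2.1 + V.2.2.2.1 * V.2.2.2.1 +
          2 * (V.2.2.2.2 * V.2.2.2.2)))

instance (m C : ℕ) (five : Bool) (T V : Tup) : Decidable (ColOK m C five T V) := by unfold ColOK; infer_instance

/-- `8640` times the signed sum of `v² / d`. -/
def quad (T V : Tup) : ℤ :=
  8640 + sgn T.1 * (V.1 * V.1) * (8640 / (T.1.natAbs : ℤ)) +
    sgn T.2.1 * (V.2.1 * V.2.1) * (8640 / (T.2.1.natAbs : ℤ)) +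
    sgn T.2.2.1 * (V.2.2.1 * V.2.2.1) * (8640 / (T.2.2.1.natAbs : ℤ)) +
    sgn T.2.2.2.1 * (V.2.2.2.1 * V.2.2.2.1) * (8640 / (T.2.2.2.1.natAbs : ℤ)) +
    sgn T.2.2.2.2 * (V.2.2.2.2 * V.2.2.2.2) * (8640 / (T.2.2.2.2.natAbs : ℤ))

/-- `8640` times the signed sum of `v w / d`. -/
def cross (T V W : Tup) : ℤ :=
  8640 + sgn T.1 * (V.1 * W.1) * (8640 / (T.1.natAbs : ℤ)) +
    sgn T.2.1 * (V.2.1 * W.2.1) * (8640 / (T.2.1.natAbs : ℤ)) +
    sgn T.2.2.1 * (V.2.2.1 * W.2.2.1) * (8640 / (T.2.2.1.natAbs : ℤ)) +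
    sgn T.2.2.2.1 * (V.2.2.2.1 * W.2.2.2.1) * (8640 / (T.2.2.2.1.natAbs : ℤ)) +
    sgn T.2.2.2.2 * (V.2.2.2.2 * W.2.2.2.2) * (8640 / (T.2.2.2.2.natAbs : ℤ))

theorem quad_eq (T V : Tup) : quad T V = cross T V V := rfl

/-- The possible values for one member. -/
def vals (m C : ℕ) (five : Bool) (D : ℤ) : List ℤ :=
  ((List.range 185).map fun i : ℕ => (i : ℤ) - 92).filter fun v => decide (ValOK m C five D v)

theorem mem_vals {m C : ℕ} (hC : C ≤ 8640) {five : Bool} {D v : ℤ} (h : ValOK m C five D v) :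
    v ∈ vals m C five D := by
  simp only [vals, List.mem_filter, List.mem_map, List.mem_range, decide_eq_true_eq]
  have h2 := h.2.1
  have hC' : (C : ℤ) ≤ 8640 := by exact_mod_cast hC
  have hlo : -92 ≤ v := by nlinarith
  have hhi : v ≤ 92 := by nlinarith
  exact ⟨⟨(v + 92).toNat, by omega, by omega⟩, h⟩

/-- All columns. -/
def cols (m C : ℕ) (five : Bool) (T : Tup) : List Tup :=
  (vals m C five T.1).flatMap fun a => (vals m C five T.2.1).flatMap fun b =>
    (vals m C five T.2.2.1).flatMap fun c => (vals m C five T.2.2.2.1).filterMap fun d =>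
      let V : Tup := (a, b, c, d,
        -sgn T.2.2.2.2 * (1 + sgn T.1 * a + sgn T.2.1 * b + sgn T.2.2.1 * c + sgn T.2.2.2.1 * d))
      if ColOK m C five T V then some V else none

theorem mem_cols {m C : ℕ} (hC : C ≤ 8640) {five : Bool} {T V : Tup} (h : ColOK m C five T V) :
    V ∈ cols m C five T := by
  obtain ⟨a, b, c, d, e⟩ := V
  have h' := h
  obtain ⟨ha, hb, hc, hd, -, hlin, -, -⟩ := h'
  simp only at hlin
  simp only [cols, List.mem_flatMap, List.mem_filterMap]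
  refine ⟨a, mem_vals hC ha, b, mem_vals hC hb, c, mem_vals hC hc, d, mem_vals hC hd, ?_⟩
  have he : -sgn T.2.2.2.2 * (1 + sgn T.1 * a + sgn T.2.1 * b + sgn T.2.2.1 * c + sgn T.2.2.2.1 * d) = e := by
    have hs : sgn T.2.2.2.2 * sgn T.2.2.2.2 = 1 := by unfold sgn; split <;> norm_num
    linear_combination (-sgn T.2.2.2.2) * hlin + e * hs
  rw [he, if_pos h]

/-- The orders of centralisers of central involutions. -/
def centralOrders : List ℕ := [64, 192, 320, 576, 960, 1728, 2880, 8640]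

/-- The signed degree lists that allow a central involution. -/
def survivors : List Tup := [(-120, -54, 45, 144, -16), (-120, -54, -32, 45, 160), (-10, -10, -10, 45, -16),
  (-10, -10, 12, 12, -5), (-120, -10, -10, 144, -5), (-10, 12, 12, 45, -60), (-120, -10, 12, 45, 72),
  (-54, -10, 45, 45, -27), (-120, -10, 45, 144, -60), (-120, -32, 12, 144, -5)]

theorem central_check : ∀ T ∈ degCases, ∀ C ∈ centralOrders, ∀ V ∈ cols 4 C false T,
    quad T V = 0 → T ∈ survivors := by decide +kernel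

/-- The degrees of M12. -/
def twelveT : Tup := (-120, -54, 45, 144, -16)

/-- The even divisors of 8640. -/
def evenOrders : List ℕ := (List.range 8641).filter fun C => decide (2 ∣ C ∧ C ∣ 8640)

theorem involution_check : ∀ C ∈ evenOrders, ∀ V ∈ cols 4 C false twelveT, quad twelveT V = 0 →
    (C, V) ∈ ([(192, -8, 6, -3, 0, 0), (120, 0, 6, 5, 4, 4), (240, 0, 6, 5, 4, 4), (120, 0, 6, 5, -4, -4),
      (240, 0, 6, 5, -4, -4)] : List (ℕ × Tup)) := by decide +kernel

/-- The degrees of the other list without a degree 5 or 10. -/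
def otherT : Tup := (-120, -54, -32, 45, 160)

theorem other_involution_check : ∀ C ∈ evenOrders, ∀ V ∈ cols 4 C true otherT, quad otherT V ≠ 0 := by
  decide +kernel

/-- The multiples of 45 dividing 8640. -/
def fiveThreeOrders : List ℕ := (List.range 8641).filter fun C => decide (45 ∣ C ∧ C ∣ 8640)

theorem other_three_check : ∀ C ∈ fiveThreeOrders, ∀ V ∈ cols 3 C true otherT,
    ¬ (0 ≤ quad otherT V ∧ ((C * C * 8640 : ℕ) : ℤ) ∣ 95040 * quad otherT V) := by decide +kernel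

theorem twelve_three_check : ∀ C ∈ fiveThreeOrders, ∀ V ∈ cols 3 C true twelveT,
    0 ≤ quad twelveT V → ((C * C * 8640 : ℕ) : ℤ) ∣ 95040 * quad twelveT V → V.1 = 0 := by decide +kernel

/-- The orders of centralisers of elements of order 3 commuting with an involution. -/
def threeOrders : List ℕ := (List.range 8641).filter fun C => decide (18 ∣ C ∧ C ∣ 8640)

theorem twelve_commuting_check : ∀ C ∈ threeOrders, ∀ V ∈ cols 3 C false twelveT,
    0 ≤ quad twelveT V → ((C * C * 8640 : ℕ) : ℤ) ∣ 95040 * quad twelveT V →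
    ((192 * C * 8640 : ℕ) : ℤ) ∣ 95040 * cross twelveT V (-8, 6, -3, 0, 0) →
      (C, V) ∈ ([(36, 0, 0, 3, -3, 1), (54, 3, 0, 0, 0, -2)] : List (ℕ × Tup)) := by decide +kernel

end Cfsg.Lib.MTwelveOrder
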