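import Cfsg.Agent.Lib.MTwelveOrder.Facts
import Cfsg.Agent.Lib.MTwelveOrder.Cases

/-!
The signed degrees in the principal 11-block of a simple group of order 95040 are those of M12, and
some involution centralising an element of order 5 is not conjugate to a 2-central one.
-/

set_option autoImplicit false
set_option linter.style.haveILetI false
set_option linter.unusedSectionVars false
set_option maxRecDepth 100000

namespace Cfsg.Lib.MTwelveOrder

open Cfsg Cfsg.Lib.Char Cfsg.Lib.Block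

universe u

local instance fact_eleven_degrees : Fact (Nat.Prime 11) := ⟨by norm_num⟩

theorem exists_sorted_four {α : Type*} [DecidableEq α] {s : Finset α} (hs : s.card = 4) (key : α → ℤ) :
    ∃ a b c d, s = {a, b, c, d} ∧ a ≠ b ∧ a ≠ c ∧ a ≠ d ∧ b ≠ c ∧ b ≠ d ∧ c ≠ d ∧
      key a ≤ key b ∧ key b ≤ key c ∧ key c ≤ key d := by
  obtain ⟨a, ha, hamin⟩ := Finset.exists_min_image s key (Finset.card_pos.1 (by omega))
  have h3 : (s.erase a).card = 3 := by rw [Finset.card_erase_of_mem ha, hs]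
  obtain ⟨b, hb, hbmin⟩ := Finset.exists_min_image (s.erase a) key (Finset.card_pos.1 (by omega))
  have h2 : ((s.erase a).erase b).card = 2 := by rw [Finset.card_erase_of_mem hb, h3]
  obtain ⟨c, hc, hcmin⟩ := Finset.exists_min_image ((s.erase a).erase b) key (Finset.card_pos.1 (by omega))
  have h1 : (((s.erase a).erase b).erase c).card = 1 := by rw [Finset.card_erase_of_mem hc, h2]
  obtain ⟨d, hd⟩ := Finset.card_eq_one.1 h1
  have hd' : d ∈ ((s.erase a).erase b).erase c := by rw [hd]; exact Finset.mem_singleton_self d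
  simp only [Finset.mem_erase] at hd' hc hb
  refine ⟨a, b, c, d, ?_, hb.1.symm, hc.2.1.symm, hd'.2.2.1.symm, hc.1.symm, hd'.2.1.symm, hd'.1.symm,
    hamin b hb.2, hbmin c (Finset.mem_erase.2 ⟨hc.2.1, hc.2.2⟩),
    hcmin d (Finset.mem_erase.2 ⟨hd'.2.1, Finset.mem_erase.2 ⟨hd'.2.2.1, hd'.2.2.2⟩⟩)⟩
  conv_lhs => rw [← Finset.insert_erase ha, ← Finset.insert_erase (Finset.mem_erase.2 hb),
    ← Finset.insert_erase (Finset.mem_erase.2 ⟨hc.1, Finset.mem_erase.2 hc.2⟩), hd]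

theorem xVals_check : ∀ d ∈ List.range 309, ∀ s ∈ ([1, -1] : List ℤ), d ∣ 8640 → 2 ≤ d →
    (11 : ℤ) ∣ s * d - 1 → s * d ∈ xVals := by decide +kernel

theorem tVals_check : ∀ d ∈ List.range 309, ∀ s ∈ ([1, -1] : List ℤ), d ∣ 8640 → 5 ≤ d →
    (11 : ℤ) ∣ s * d + 5 → s * d ∈ tVals := by decide +kernel

theorem small_check : ∀ d ∈ List.range 5, ∀ s ∈ ([1, -1] : List ℤ), d ∣ 8640 → 2 ≤ d →
    ¬ (11 : ℤ) ∣ s * d + 5 := by decide +kernel

variable {G : Type u} [Group G] [Fintype G]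

/-- The members of the block with their signed degrees. -/
structure Members (E : Eleven G) (T : Tup) where
  /-- first member -/
  a : IrrCharacter G
  /-- second member -/
  b : IrrCharacter G
  /-- third member -/
  c : IrrCharacter G
  /-- fourth member -/
  d : IrrCharacter G
  ha : a ∈ E.S.X
  hb : b ∈ E.S.X
  hc : c ∈ E.S.X
  hd : d ∈ E.S.X
  ne_a : a ≠ trivChar G
  ne_b : b ≠ trivChar G
  ne_c : c ≠ trivChar G
  ne_d : d ≠ trivChar G
  ne_θ : E.S.θ ≠ trivChar G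
  sa : E.S.σ a * (cdeg a : ℤ) = T.1
  sb : E.S.σ b * (cdeg b : ℤ) = T.2.1
  sc : E.S.σ c * (cdeg c : ℤ) = T.2.2.1
  sd : E.S.σ d * (cdeg d : ℤ) = T.2.2.2.1
  sθ : E.S.σ E.S.θ * (cdeg E.S.θ : ℤ) = T.2.2.2.2
  cover : ∀ φ ∈ E.S.Z, φ = trivChar G ∨ φ = a ∨ φ = b ∨ φ = c ∨ φ = d ∨ φ = E.S.θ
  sumX : ∀ {R : Type} [AddCommMonoid R] (f : IrrCharacter G → R),
    ∑ χ ∈ E.S.X, f χ = f (trivChar G) + (f a + (f b + (f c + f d)))

variable (hG : IsM12 G) (E : Eleven G)

include hG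

theorem exists_members : ∃ T ∈ degCases, Nonempty (Members E T) := by
  classical
  haveI := hG.1
  have hnc := not_cyclic hG
  have h1 := E.S.one_mem_X (by norm_num)
  have hθ1 : E.S.θ ≠ trivChar G := E.S.θ_ne_one (by norm_num)
  obtain ⟨a, b, c, d, hs, nab, nac, nad, nbc, nbd, ncd, kab, kbc, kcd⟩ :=
    exists_sorted_four (s := E.S.X.erase (trivChar G))
      (by rw [Finset.card_erase_of_mem h1, E.S.card_X])
      (fun χ => E.S.σ χ * (cdeg χ : ℤ))
  have hm : ∀ y ∈ ({a, b, c, d} : Finset (IrrCharacter G)), y ∈ E.S.X ∧ y ≠ trivChar G := fun y hy => by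
    rw [← hs, Finset.mem_erase] at hy
    exact ⟨hy.2, hy.1⟩
  obtain ⟨ha, hna⟩ := hm a (by simp)
  obtain ⟨hb, hnb⟩ := hm b (by simp)
  obtain ⟨hc, hnc'⟩ := hm c (by simp)
  obtain ⟨hd, hnd⟩ := hm d (by simp)
  have hsumX : ∀ {R : Type} [AddCommMonoid R] (f : IrrCharacter G → R),
      ∑ χ ∈ E.S.X, f χ = f (trivChar G) + (f a + (f b + (f c + f d))) := by
    intro R _ f
    rw [← Finset.add_sum_erase _ _ h1, hs, Finset.sum_insert (by simp [nab, nac, nad]),
      Finset.sum_insert (by simp [nbc, nbd]), Finset.sum_insert (by simp [ncd]), Finset.sum_singleton]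
  have hZX : ∀ {χ}, χ ∈ E.S.X → χ ∈ E.S.Z := fun h => E.S.mem_Z.2 (Or.inr h)
  have hZθ : E.S.θ ∈ E.S.Z := E.S.mem_Z.2 (Or.inl rfl)
  have hsq := E.S.sum_sq
  have hbound : ∀ χ : IrrCharacter G, cdeg χ < 309 := fun χ => by
    have h := MEleven.sum_sq_deg_le ({χ} : Finset (IrrCharacter G))
    rw [Finset.sum_singleton, hG.2] at h
    by_contra hn
    have := Nat.pow_le_pow_left (not_lt.1 hn) 2
    exact absurd (this.trans h) (by norm_num)
  have hsign : ∀ χ ∈ E.S.Z, E.S.σ χ ∈ ([1, -1] : List ℤ) := fun χ h => by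
    rcases E.S.sign χ h with h | h <;> simp [h]
  have hval : ∀ χ, χ ∈ E.S.X → χ ≠ trivChar G → E.S.σ χ * (cdeg χ : ℤ) ∈ xVals := fun χ hχ hne =>
    xVals_check (cdeg χ) (List.mem_range.2 (hbound χ)) _ (hsign χ (hZX hχ)) (E.S.deg_dvd (card_eq hG) (hZX hχ))
      (Small.two_le_charDegree hnc hne) (Int.modEq_iff_dvd.1 (E.S.cong χ hχ).symm)
  have hθc : (11 : ℤ) ∣ E.S.σ E.S.θ * (cdeg E.S.θ : ℤ) + 5 := by
    have := Int.modEq_iff_dvd.1 E.S.congθ.symm
    rwa [sub_neg_eq_add] at this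
  have hθ5 : 5 ≤ cdeg E.S.θ := by
    by_contra hlt
    exact small_check _ (List.mem_range.2 (not_le.1 hlt)) _ (hsign _ hZθ) (E.S.deg_dvd (card_eq hG) hZθ)
      (Small.two_le_charDegree hnc hθ1) hθc
  have htv := tVals_check (cdeg E.S.θ) (List.mem_range.2 (hbound _)) _ (hsign _ hZθ)
    (E.S.deg_dvd (card_eq hG) hZθ) hθ5 hθc
  have hrel := E.S.rel_deg
  rw [E.S.Z_eq, Finset.sum_insert E.S.θ_notMem, hsumX, E.S.sign_one, Small.charDegree_one'] at hrel
  have hsq2 : ∑ χ ∈ E.S.X, (cdeg χ : ℤ) ^ 2 + 2 * (cdeg E.S.θ : ℤ) ^ 2 ≤ 95040 := by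
    rw [hG.2] at hsq
    norm_num at hsq
    exact_mod_cast hsq
  rw [hsumX, Small.charDegree_one'] at hsq2
  have hsqσ : ∀ χ ∈ E.S.Z, E.S.σ χ * (cdeg χ : ℤ) * (E.S.σ χ * (cdeg χ : ℤ)) = (cdeg χ : ℤ) ^ 2 := fun χ h => by
    rcases E.S.sign χ h with h | h <;> rw [h] <;> ring
  refine ⟨_, mem_degCases (hval a ha hna) (hval b hb hnb) (hval c hc hnc') (hval d hd hnd) htv
    ⟨kab, kbc, kcd, ?_, ?_⟩, ⟨⟨a, b, c, d, ha, hb, hc, hd, hna, hnb, hnc', hnd, hθ1, rfl, rfl, rfl, rfl, rfl,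
      ?_, hsumX⟩⟩⟩
  · push_cast at hrel ⊢
    linarith
  · simp only [hsqσ _ (hZX ha), hsqσ _ (hZX hb), hsqσ _ (hZX hc), hsqσ _ (hZX hd), hsqσ _ hZθ]
    push_cast at hsq2
    linarith
  · intro φ hφ
    rcases E.S.mem_Z.1 hφ with h | h
    · exact Or.inr (Or.inr (Or.inr (Or.inr (Or.inr h))))
    by_cases he : φ = trivChar G
    · exact Or.inl he
    have : φ ∈ E.S.X.erase (trivChar G) := Finset.mem_erase.2 ⟨he, h⟩
    rw [hs] at this
    simp only [Finset.mem_insert, Finset.mem_singleton] at this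
    tauto

variable {E} {T : Tup} (M : Members E T)

omit hG in
theorem deg_of_signed {χ : IrrCharacter G} (hχ : χ ∈ E.S.Z) {D : ℤ} (h : E.S.σ χ * (cdeg χ : ℤ) = D) :
    cdeg χ = D.natAbs ∧ E.S.σ χ = sgn D := by
  have hpos := Block.charDegree_pos χ
  rcases E.S.sign χ hχ with hs | hs <;> rw [hs] at h ⊢ <;> unfold sgn
  · refine ⟨by omega, ?_⟩
    rw [if_pos (by omega)]
  · refine ⟨by omega, ?_⟩
    rw [if_neg (by omega)]

omit hG in
theorem Members.degrees : cdeg M.a = T.1.natAbs ∧ cdeg M.b = T.2.1.natAbs ∧ cdeg M.c = T.2.2.1.natAbs ∧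
    cdeg M.d = T.2.2.2.1.natAbs ∧ cdeg E.S.θ = T.2.2.2.2.natAbs :=
  ⟨(deg_of_signed (E.S.mem_Z.2 (Or.inr M.ha)) M.sa).1, (deg_of_signed (E.S.mem_Z.2 (Or.inr M.hb)) M.sb).1,
    (deg_of_signed (E.S.mem_Z.2 (Or.inr M.hc)) M.sc).1, (deg_of_signed (E.S.mem_Z.2 (Or.inr M.hd)) M.sd).1,
    (deg_of_signed (E.S.mem_Z.2 (Or.inl rfl)) M.sθ).1⟩

omit hG in
/-- A member whose degree differs from those of the other members is determined by its degree. -/
theorem Members.unique {χ : IrrCharacter G} (h1 : cdeg χ ≠ 1)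
    (ha : M.a = χ ∨ cdeg M.a ≠ cdeg χ) (hb : M.b = χ ∨ cdeg M.b ≠ cdeg χ) (hc : M.c = χ ∨ cdeg M.c ≠ cdeg χ)
    (hd : M.d = χ ∨ cdeg M.d ≠ cdeg χ) (hθ : E.S.θ = χ ∨ cdeg E.S.θ ≠ cdeg χ) :
    ∀ φ ∈ E.S.Z, cdeg φ = cdeg χ → φ = χ := by
  intro φ hφ hd'
  rcases M.cover φ hφ with rfl | rfl | rfl | rfl | rfl | rfl
  · exact absurd (hd'.symm.trans Small.charDegree_one') h1
  · exact ha.resolve_right fun h => h hd'
  · exact hb.resolve_right fun h => h hd'
  · exact hc.resolve_right fun h => h hd'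
  · exact hd.resolve_right fun h => h hd'
  · exact hθ.resolve_right fun h => h hd'

theorem centralizer_dvd {g : G} (hg : g ≠ 1) (hreg : ¬ 11 ∣ orderOf g) :
    Nat.card (Subgroup.centralizer ({g} : Set G)) ∣ 8640 := by
  classical
  obtain ⟨E⟩ := nonempty_eleven hG
  have h11 : ¬ 11 ∣ Nat.card (Subgroup.centralizer ({g} : Set G)) := by
    intro h
    obtain ⟨⟨z, hz⟩, hz11⟩ := exists_prime_orderOf_dvd_card' 11 h
    rw [Subgroup.orderOf_mk] at hz11
    obtain ⟨Q, hQ⟩ := Small.exists_sylow_eq_zpowers (card_sylow_eleven hG) hz11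
    obtain ⟨k, hk⟩ := MulAction.exists_smul_eq G Q E.P
    have hgc : k * g * k⁻¹ ∈ Subgroup.centralizer ((E.P : Subgroup G) : Set G) := by
      rw [Subgroup.mem_centralizer_iff]
      intro y hy
      rw [← hk, Sylow.coe_subgroup_smul, hQ] at hy
      obtain ⟨y', hy', rfl⟩ := hy
      obtain ⟨i, rfl⟩ := Subgroup.mem_zpowers_iff.1 hy'
      show k * z ^ i * k⁻¹ * (k * g * k⁻¹) = k * g * k⁻¹ * (k * z ^ i * k⁻¹)
      have hgz : Commute z g := Subgroup.mem_centralizer_singleton_iff.1 hz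
      have h' := (hgz.zpow_left i).eq
      calc k * z ^ i * k⁻¹ * (k * g * k⁻¹) = k * (z ^ i * g) * k⁻¹ := by group
        _ = k * (g * z ^ i) * k⁻¹ := by rw [h']
        _ = _ := by group
    have h2 := Subgroup.orderOf_dvd_natCard _ hgc
    rw [E.cent, ← MulAut.conj_apply, MulEquiv.orderOf_eq] at h2
    rcases (Nat.dvd_prime (by norm_num)).1 h2 with h2 | h2
    · exact hg (orderOf_eq_one_iff.1 h2)
    · exact hreg (by rw [h2])
  have hd := Subgroup.card_subgroup_dvd_card (Subgroup.centralizer ({g} : Set G))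
  rw [hG.2, show (95040 : ℕ) = 11 * 8640 by norm_num] at hd
  exact (((Fact.out : Nat.Prime 11).coprime_iff_not_dvd).2 h11).symm.dvd_of_dvd_mul_left hd

/-- The bounds on a value, given the congruence. -/
theorem val_ok {χ : IrrCharacter G} (hne : χ ≠ trivChar G) {D v : ℤ} (hd : cdeg χ = D.natAbs) {g : G}
    (hg : g ≠ 1) (hv : (χ : G → ℂ) g = v) {m : ℕ} (hm : (m : ℤ) ∣ (cdeg χ : ℤ) - v)
    (h3 : m = 3 → -(cdeg χ : ℤ) ≤ 2 * v) {five : Bool}
    (h5 : five = true → 5 ∣ cdeg χ → (5 : ℤ) ∣ v) :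
    ValOK m (Nat.card (Subgroup.centralizer ({g} : Set G))) five D v := by
  haveI := hG.1
  have hle : v.natAbs ≤ cdeg χ := by
    have h := χ.2.isCharacter.norm_le g
    rw [hv, Complex.norm_intCast, apply_one, Complex.natCast_re, ← Int.cast_abs, Int.abs_eq_natAbs] at h
    exact_mod_cast h
  refine ⟨hd ▸ hm, ?_, ?_, hd ▸ h3, hd ▸ natAbs_lt_deg (not_cyclic hG) hne hg hv hle,
    fun h h' => h5 h (by rw [hd]; exact_mod_cast h')⟩
  · have h := sum_sq_le ({χ} : Finset (IrrCharacter G)) g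
    rw [Finset.sum_singleton, hv, Complex.norm_intCast, sq_abs] at h
    rw [← pow_two]
    exact_mod_cast h
  · have hI : (Subgroup.centralizer ({g} : Set G)).index =
        95040 / Nat.card (Subgroup.centralizer ({g} : Set G)) := by
      rw [← hG.2, ← Subgroup.card_mul_index (Subgroup.centralizer ({g} : Set G)),
        Nat.mul_div_cancel_left _ Nat.card_pos]
    have h := deg_dvd_class_mul χ hv
    rwa [hI, hd] at h

/-- The values of the members at an element. -/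
structure Column (g : G) (V : Tup) : Prop where
  va : (M.a : G → ℂ) g = V.1
  vb : (M.b : G → ℂ) g = V.2.1
  vc : (M.c : G → ℂ) g = V.2.2.1
  vd : (M.d : G → ℂ) g = V.2.2.2.1
  vθ : (E.S.θ : G → ℂ) g = V.2.2.2.2

variable {M}

theorem col_ok {g : G} {V : Tup} (hV : Column M g V) (hg : g ≠ 1) (hreg : ¬ 11 ∣ orderOf g) {m : ℕ}
    {five : Bool} (h : ∀ χ ∈ E.S.Z, χ ≠ trivChar G → ∀ v : ℤ, (χ : G → ℂ) g = v →
      (m : ℤ) ∣ (cdeg χ : ℤ) - v ∧ (m = 3 → -(cdeg χ : ℤ) ≤ 2 * v) ∧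
        (five = true → 5 ∣ cdeg χ → (5 : ℤ) ∣ v)) :
    ColOK m (Nat.card (Subgroup.centralizer ({g} : Set G))) five T V := by
  classical
  haveI := hG.1
  obtain ⟨da, db, dc, dd, dθ⟩ := M.degrees
  have hX : ∀ {χ}, χ ∈ E.S.X → χ ∈ E.S.Z := fun h => E.S.mem_Z.2 (Or.inr h)
  have hone : ((trivChar G : IrrCharacter G) : G → ℂ) g = 1 := rfl
  have hd1 : cdeg (trivChar G) = 1 := Small.charDegree_one'
  have mk : ∀ χ ∈ E.S.Z, χ ≠ trivChar G → ∀ D v : ℤ, cdeg χ = D.natAbs → (χ : G → ℂ) g = v →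
      ValOK m (Nat.card (Subgroup.centralizer ({g} : Set G))) five D v := fun χ hχ hne D v hd hv => by
    obtain ⟨h1, h2, h3⟩ := h χ hχ hne v hv
    exact val_ok hG hne hd hg hv h1 h2 h3
  refine ⟨mk _ (hX M.ha) M.ne_a _ _ da hV.va, mk _ (hX M.hb) M.ne_b _ _ db hV.vb,
    mk _ (hX M.hc) M.ne_c _ _ dc hV.vc, mk _ (hX M.hd) M.ne_d _ _ dd hV.vd,
    mk _ (E.S.mem_Z.2 (Or.inl rfl)) M.ne_θ _ _ dθ hV.vθ, ?_, ?_, ?_⟩
  · have h0 := E.S.rel g hreg
    rw [E.S.Z_eq, Finset.sum_insert E.S.θ_notMem, M.sumX, hone, E.S.sign_one,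
      hV.va, hV.vb, hV.vc, hV.vd, hV.vθ, (deg_of_signed (hX M.ha) M.sa).2, (deg_of_signed (hX M.hb) M.sb).2,
      (deg_of_signed (hX M.hc) M.sc).2, (deg_of_signed (hX M.hd) M.sd).2,
      (deg_of_signed (E.S.mem_Z.2 (Or.inl rfl)) M.sθ).2] at h0
    apply Int.cast_injective (α := ℂ)
    push_cast at h0 ⊢
    linear_combination h0
  all_goals
    have hY : ∀ θ' ∈ E.S.Y, (θ' : G → ℂ) g = V.2.2.2.2 := fun θ' h' => by rw [E.S.agree θ' h' g hreg, hV.vθ]
  · have h0 := sum_sq_le (E.S.X ∪ E.S.Y) g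
    rw [Finset.sum_union E.S.disj, M.sumX, hone, hV.va, hV.vb, hV.vc, hV.vd,
      Finset.sum_congr (rfl : E.S.Y = E.S.Y) (fun θ' h' => by rw [hY θ' h']), Finset.sum_const, E.S.card_Y,
      norm_one, Complex.norm_intCast, Complex.norm_intCast, Complex.norm_intCast, Complex.norm_intCast,
      Complex.norm_intCast, sq_abs, sq_abs, sq_abs, sq_abs, sq_abs] at h0
    norm_num [-Nat.card_eq_fintype_card] at h0
    simp only [← pow_two]
    apply (Int.cast_le (R := ℝ)).1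
    push_cast
    linarith
  · let val : IrrCharacter G → ℤ := fun χ =>
      if χ = trivChar G then 1 else if χ = M.a then V.1 else if χ = M.b then V.2.1 else
        if χ = M.c then V.2.2.1 else if χ = M.d then V.2.2.2.1 else V.2.2.2.2
    have hval : ∀ χ ∈ E.S.X ∪ E.S.Y, (χ : G → ℂ) g = (val χ : ℂ) := by
      intro χ hχ
      simp only [val]
      split_ifs with e1 e2 e3 e4 e5
      · rw [e1, hone, Int.cast_one]
      · rw [e2, hV.va]
      · rw [e3, hV.vb]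
      · rw [e4, hV.vc]
      · rw [e5, hV.vd]
      · rcases Finset.mem_union.1 hχ with h' | h'
        · rcases M.cover χ (hX h') with e | e | e | e | e | e <;> first | (exact absurd e ‹_›) | skip
          exact absurd (e ▸ h') E.S.θ_notMem
        · exact hY χ h'
    have hev : ∀ χ ∈ E.S.X ∪ E.S.Y, ∀ v : ℤ, (χ : G → ℂ) g = v → val χ = v := fun χ hχ v hv => by
      have := (hval χ hχ).symm.trans hv
      exact_mod_cast this
    have h0 := column_bound (E.S.X ∪ E.S.Y) hg val hval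
    have hYd : ∀ θ' ∈ E.S.Y, cdeg θ' = cdeg E.S.θ := fun θ' h' => by
      have h2 := E.S.agree θ' h' 1 (by rw [orderOf_one]; norm_num)
      rw [apply_one, apply_one, Nat.cast_inj] at h2
      exact h2
    have hu : ∀ {χ}, χ ∈ E.S.X → χ ∈ E.S.X ∪ E.S.Y := fun h => Finset.mem_union_left _ h
    have hYs : ∀ θ' ∈ E.S.Y, val θ' = V.2.2.2.2 := fun θ' h' =>
      hev θ' (Finset.mem_union_right _ h') _ (hY θ' h')
    have hY1 : ∑ χ ∈ E.S.Y, (cdeg χ : ℤ) * val χ = E.S.Y.card • ((cdeg E.S.θ : ℤ) * V.2.2.2.2) := by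
      rw [Finset.sum_congr (rfl : E.S.Y = E.S.Y) (g := fun _ => (cdeg E.S.θ : ℤ) * V.2.2.2.2)
        (fun θ' h' => by rw [hYd θ' h', hYs θ' h']), Finset.sum_const]
    have hY2 : ∑ χ ∈ E.S.Y, (cdeg χ : ℤ) ^ 2 = E.S.Y.card • ((cdeg E.S.θ : ℤ) ^ 2) := by
      rw [Finset.sum_congr (rfl : E.S.Y = E.S.Y) (g := fun _ => (cdeg E.S.θ : ℤ) ^ 2)
        (fun θ' h' => by rw [hYd θ' h']), Finset.sum_const]
    have hY3 : ∑ χ ∈ E.S.Y, val χ ^ 2 = E.S.Y.card • (V.2.2.2.2 ^ 2) := by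
      rw [Finset.sum_congr (rfl : E.S.Y = E.S.Y) (g := fun _ => V.2.2.2.2 ^ 2)
        (fun θ' h' => by rw [hYs θ' h']), Finset.sum_const]
    rw [Finset.sum_union E.S.disj, Finset.sum_union E.S.disj, Finset.sum_union E.S.disj, M.sumX, M.sumX, M.sumX,
      hev _ (hu (E.S.one_mem_X (by norm_num))) 1 (hone.trans Int.cast_one.symm),
      hev _ (hu M.ha) _ hV.va, hev _ (hu M.hb) _ hV.vb, hev _ (hu M.hc) _ hV.vc, hev _ (hu M.hd) _ hV.vd,
      hY1, hY2, hY3, E.S.card_Y, hd1, da, db, dc, dd, dθ, hG.2] at h0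
    simp only [Int.natCast_natAbs, sq_abs] at h0
    norm_num [-Nat.card_eq_fintype_card] at h0
    simp only [Int.natCast_natAbs, ← pow_two]
    norm_num [-Nat.card_eq_fintype_card]
    linarith

/-- The signed sum of products divided by degrees, times 8640. -/
theorem cross_eq {g h : G} {V W : Tup} (hV : Column M g V) (hW : Column M h W) :
    (8640 : ℂ) * ∑ χ ∈ E.S.Z, (E.S.σ χ : ℂ) * ((χ : G → ℂ) g * (χ : G → ℂ) h / (χ : G → ℂ) 1) =
      (cross T V W : ℂ) := by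
  classical
  have key : ∀ χ ∈ E.S.Z, ∀ D v w : ℤ, E.S.σ χ * (cdeg χ : ℤ) = D → (χ : G → ℂ) g = v → (χ : G → ℂ) h = w →
      (8640 : ℂ) * ((E.S.σ χ : ℂ) * ((χ : G → ℂ) g * (χ : G → ℂ) h / (χ : G → ℂ) 1)) =
        ((sgn D * (v * w) * (8640 / (D.natAbs : ℤ)) : ℤ) : ℂ) := by
    intro χ hχ D v w hD hv hw
    obtain ⟨hd, hs⟩ := deg_of_signed hχ hD
    rw [hv, hw, apply_one, hs, ← hd]
    obtain ⟨k, hk⟩ := E.S.deg_dvd (card_eq hG) hχ
    have h0 : (cdeg χ : ℂ) ≠ 0 := Nat.cast_ne_zero.2 (Block.charDegree_pos χ).ne'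
    have hq : (8640 : ℤ) / (cdeg χ : ℤ) = k := by
      rw [show (8640 : ℤ) = ((8640 : ℕ) : ℤ) by norm_num, hk, Nat.cast_mul,
        Int.mul_ediv_cancel_left _ (by exact_mod_cast (Block.charDegree_pos χ).ne')]
    have hkc : (8640 : ℂ) = (cdeg χ : ℂ) * k := by exact_mod_cast hk
    rw [hq, hkc]
    push_cast
    field_simp
  have hX : ∀ {χ}, χ ∈ E.S.X → χ ∈ E.S.Z := fun h => E.S.mem_Z.2 (Or.inr h)
  rw [Finset.mul_sum, E.S.Z_eq, Finset.sum_insert E.S.θ_notMem, M.sumX,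
    key _ (hX M.ha) _ _ _ M.sa hV.va hW.va, key _ (hX M.hb) _ _ _ M.sb hV.vb hW.vb,
    key _ (hX M.hc) _ _ _ M.sc hV.vc hW.vc, key _ (hX M.hd) _ _ _ M.sd hV.vd hW.vd,
    key _ (E.S.mem_Z.2 (Or.inl rfl)) _ _ _ M.sθ hV.vθ hW.vθ, E.S.sign_one,
    show ((trivChar G : IrrCharacter G) : G → ℂ) g = 1 from rfl,
    show ((trivChar G : IrrCharacter G) : G → ℂ) h = 1 from rfl,
    show ((trivChar G : IrrCharacter G) : G → ℂ) 1 = 1 from rfl]
  simp only [cross]
  push_cast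
  ring

theorem quad_involutions {g h : G} {V W : Tup} (hV : Column M g V) (hW : Column M h W) (hg : orderOf g = 2)
    (hh : orderOf h = 2) : cross T V W = 0 := by
  have h0 := cross_eq hG hV hW
  rw [involution_relation hG E hg hh, mul_zero] at h0
  exact_mod_cast h0.symm

theorem count_dvd {g h : G} {V W : Tup} (hV : Column M g V) (hW : Column M h W) (hg : ¬ 11 ∣ orderOf g)
    (hh : ¬ 11 ∣ orderOf h) : 0 ≤ cross T V W ∧
      ((Nat.card (Subgroup.centralizer ({g} : Set G)) * Nat.card (Subgroup.centralizer ({h} : Set G)) * 8640 : ℕ) : ℤ) ∣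
        95040 * cross T V W := by
  obtain ⟨n, hn⟩ := pair_count hG E hg hh
  have h0 := cross_eq hG hV hW
  have h1 : ((n * (Nat.card (Subgroup.centralizer ({g} : Set G)) *
      Nat.card (Subgroup.centralizer ({h} : Set G)) * 8640) : ℕ) : ℤ) = 95040 * cross T V W := by
    apply Int.cast_injective (α := ℂ)
    rw [hG.2] at hn
    push_cast at hn ⊢
    linear_combination (8640 : ℂ) * hn + (95040 : ℂ) * h0
  refine ⟨?_, ⟨n, ?_⟩⟩
  · have : 0 ≤ 95040 * cross T V W := h1 ▸ Int.natCast_nonneg _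
    omega
  · rw [← h1]; push_cast; ring

variable (M)

/-- The column at an involution. -/
theorem involution_column {t : G} (ht : orderOf t = 2) :
    ∃ V, Column M t V ∧ ∀ {five : Bool}, (five = true → ∃ q : G, orderOf q = 5 ∧ Commute q t) →
      ColOK 4 (Nat.card (Subgroup.centralizer ({t} : Set G))) five T V := by
  haveI := hG.1
  choose v hv h4 _ using fun χ : IrrCharacter G => involution_value (perfect hG) χ ht
  have hC : Column M t (v M.a, v M.b, v M.c, v M.d, v E.S.θ) := ⟨hv _, hv _, hv _, hv _, hv _⟩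
  refine ⟨_, hC, fun {five} h5 => col_ok hG hC (fun e => ?_) (by rw [ht]; norm_num) fun χ _ _ w hw => ?_⟩
  · rw [e, orderOf_one] at ht; norm_num at ht
  · have : v χ = w := by
      have := (hv χ).symm.trans hw
      exact_mod_cast this
    subst this
    refine ⟨h4 χ, fun h => absurd h (by norm_num), fun h h' => ?_⟩
    obtain ⟨q, hq, hc⟩ := h5 h
    exact five_dvd_value hG h' hq hc (by rw [ht]; norm_num) (hv χ)

/-- The column at an element of order 3 when the members have rational values there. -/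
theorem three_column {s : G} (hs : orderOf s = 3)
    (hu : ∀ χ ∈ E.S.Z, χ ≠ trivChar G → ∀ φ ∈ E.S.Z, cdeg φ = cdeg χ → φ = χ) :
    ∃ V, Column M s V ∧ ∀ {five : Bool}, (five = true → ∃ q : G, orderOf q = 5 ∧ Commute q s) →
      ColOK 3 (Nat.card (Subgroup.centralizer ({s} : Set G))) five T V := by
  have hX : ∀ {χ}, χ ∈ E.S.X → χ ∈ E.S.Z := fun h => E.S.mem_Z.2 (Or.inr h)
  have hreg : ¬ 11 ∣ orderOf s := by rw [hs]; norm_num
  obtain ⟨va, hva⟩ := rational_unique hG E (hX M.ha) (hu _ (hX M.ha) M.ne_a) hreg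
  obtain ⟨vb, hvb⟩ := rational_unique hG E (hX M.hb) (hu _ (hX M.hb) M.ne_b) hreg
  obtain ⟨vc, hvc⟩ := rational_unique hG E (hX M.hc) (hu _ (hX M.hc) M.ne_c) hreg
  obtain ⟨vd, hvd⟩ := rational_unique hG E (hX M.hd) (hu _ (hX M.hd) M.ne_d) hreg
  obtain ⟨vθ, hvθ⟩ := rational_unique hG E (E.S.mem_Z.2 (Or.inl rfl)) (hu _ (E.S.mem_Z.2 (Or.inl rfl)) M.ne_θ) hreg
  have hC : Column M s (va, vb, vc, vd, vθ) := ⟨hva, hvb, hvc, hvd, hvθ⟩
  refine ⟨_, hC, fun {five} h5 => col_ok hG hC (fun e => ?_) hreg fun χ _ _ w hw => ?_⟩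
  · rw [e, orderOf_one] at hs; norm_num at hs
  · obtain ⟨h3, hlo⟩ := order_three_value χ hs hw
    refine ⟨h3, fun _ => hlo, fun h h' => ?_⟩
    obtain ⟨q, hq, hc⟩ := h5 h
    exact five_dvd_value hG h' hq hc (by rw [hs]; norm_num) hw

omit hG in
theorem exists_central_involution (hG : IsM12 G) :
    ∃ t : G, orderOf t = 2 ∧ Nat.card (Subgroup.centralizer ({t} : Set G)) ∈ centralOrders := by
  classical
  haveI : Fact (Nat.Prime 2) := ⟨Nat.prime_two⟩
  obtain ⟨S⟩ : Nonempty (Sylow 2 G) := inferInstance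
  have hS : Nat.card (S : Subgroup G) = 64 := by
    rw [Small.card_sylow 6 1485 (by rw [hG.2]; norm_num) (by norm_num) S]; norm_num
  haveI : Nontrivial (S : Subgroup G) := by rw [← Finite.one_lt_card_iff_nontrivial, hS]; norm_num
  haveI := S.isPGroup'.center_nontrivial
  obtain ⟨n, hn, hn'⟩ := IsPGroup.iff_card.1 (S.isPGroup'.to_subgroup (Subgroup.center (S : Subgroup G))) |>.imp
    fun n hn => (⟨by
      rcases Nat.eq_zero_or_pos n with h | h
      · rw [h, pow_zero] at hn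
        have := Finite.one_lt_card_iff_nontrivial.2 (inferInstance : Nontrivial (Subgroup.center (S : Subgroup G)))
        omega
      · exact h, hn⟩ : 0 < n ∧ Nat.card (Subgroup.center (S : Subgroup G)) = 2 ^ n)
  obtain ⟨w, hw⟩ := exists_prime_orderOf_dvd_card' (G := Subgroup.center (S : Subgroup G)) 2
    (hn' ▸ dvd_pow_self 2 hn.ne')
  set t : G := ((w : (S : Subgroup G)) : G)
  have ht : orderOf t = 2 := by rw [Subgroup.orderOf_coe, Subgroup.orderOf_coe, hw]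
  refine ⟨t, ht, ?_⟩
  have hle : (S : Subgroup G) ≤ Subgroup.centralizer ({t} : Set G) := fun y hy =>
    Subgroup.mem_centralizer_singleton_iff.2 (congrArg Subtype.val (Subgroup.mem_center_iff.1 w.2 ⟨y, hy⟩))
  have h64 := Subgroup.card_dvd_of_le hle
  rw [hS] at h64
  have hd := centralizer_dvd hG (fun e => by rw [e, orderOf_one] at ht; norm_num at ht)
    (show ¬ 11 ∣ orderOf t by rw [ht]; norm_num)
  have key : ∀ C ∈ (Nat.divisors 8640).filter (fun C => 64 ∣ C), C ∈ centralOrders := by decide +kernel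
  exact key _ (Finset.mem_filter.2 ⟨Nat.mem_divisors.2 ⟨hd, by norm_num⟩, h64⟩)

end Cfsg.Lib.MTwelveOrder
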