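import Cfsg.Agent.Lib.MTwelveOrder.Tools
import Cfsg.Agent.Lib.Small.BlockOrders
import Cfsg.Prelude.Def_Sporadic

/-!
The Sylow 11-subgroups of a simple group of order 95040 are self-centralising with normalisers of
order 55: otherwise an involution centralising one of them contradicts the degrees in the principal
11-block.
-/

set_option autoImplicit false
set_option linter.style.haveILetI false
set_option linter.unusedSectionVars false
set_option maxRecDepth 100000

namespace Cfsg.Lib.MTwelveOrder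

open Cfsg Cfsg.Lib.Char Cfsg.Lib.Block

universe u

theorem eq_two_cases : ∀ d ∈ List.range 127, ∀ f ∈ [d - 1, d + 1], 2 ≤ d → 2 ≤ f → d ∣ 8640 → f ∣ 8640 →
    ((d % 11 = 1 ∧ f = d + 1) ∨ ((d + 1) % 11 = 0 ∧ f + 1 = d)) → d < 22 ∨ f < 22 := by decide +kernel

theorem x_cands : ∀ d ∈ List.range 309, ∀ s ∈ ([1, -1] : List ℤ), d ∣ 8640 → 22 ≤ d →
    (11 : ℤ) ∣ s * d - 1 → s * d ∈ ([-32, 45, -54, -120, 144] : List ℤ) := by decide +kernel

theorem theta_cands : ∀ d ∈ List.range 309, ∀ s ∈ ([1, -1] : List ℤ), d ∣ 8640 → 22 ≤ d →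
    (11 : ℤ) ∣ s * d + 5 → s * d ∈ ([-27, -60, 72, 160, 192, 270, -192, -160, -72, 60, 27, -270] : List ℤ) := by
  decide +kernel

theorem five_cands : ∀ a ∈ ([-32, 45, -54, -120, 144] : List ℤ), ∀ b ∈ ([-32, 45, -54, -120, 144] : List ℤ),
    ∀ c ∈ ([-32, 45, -54, -120, 144] : List ℤ), ∀ d ∈ ([-32, 45, -54, -120, 144] : List ℤ),
    ∀ t ∈ ([-27, -60, 72, 160, 192, 270, -192, -160, -72, 60, 27, -270] : List ℤ), (11 : ℤ) ∣ t + 5 →
    1 + a + b + c + d + t = 0 → 1 + a * a + b * b + c * c + d * d + 2 * (t * t) ≤ 95040 →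
    -32 ∈ [a, b, c, d] ∧ ((45 ∈ [a, b, c, d] ∧ (2 ≤ [a, b, c, d].count (-32) ∨ -120 ∈ [a, b, c, d])) ∨
      (2 ≤ [a, b, c, d].count (-32) ∧ t = -27)) := by
  decide +kernel

variable {G : Type u} [Group G] [Fintype G] (hG : IsM12 G)

include hG

theorem card_eq : Nat.card G = 11 * 8640 := hG.2

theorem not_cyclic : ¬ IsCyclic G := by
  haveI := hG.1
  exact Small.not_isCyclic_of_card (by rw [hG.2]; norm_num)

theorem perfect : commutator G = ⊤ := by
  haveI := hG.1
  exact Small.commutator_eq_top (not_cyclic hG)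

theorem card_sylow_eleven [Fact (Nat.Prime 11)] (P : Sylow 11 G) : Nat.card (P : Subgroup G) = 11 := by
  rw [Small.card_sylow 1 8640 (by rw [pow_one]; exact card_eq hG) (by norm_num) P, pow_one]

section Shape

variable [Fact (Nat.Prime 11)] {P : Sylow 11 G} {e : ℕ} (S : Small.Shape P e)

/-- The values at a regular element centralising the Sylow subgroup are congruent to the degrees. -/
theorem value_congr {z : G} (hz : z ∈ Subgroup.centralizer ((P : Subgroup G) : Set G))
    (hreg : ¬ 11 ∣ orderOf z) {χ : IrrCharacter G} (hχ : χ ∈ S.Z) {m : ℤ} (hm : (χ : G → ℂ) z = m)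
    (hint : ∀ ψ ∈ S.X, ∃ k : ℤ, (ψ : G → ℂ) z = k) : (11 : ℤ) ∣ (cdeg χ : ℤ) - m := by
  classical
  haveI := hG.1
  have hX : ∀ ψ ∈ S.X, ∀ k : ℤ, (ψ : G → ℂ) z = k → (11 : ℤ) ∣ S.σ ψ - k := by
    intro ψ hψ k hk
    haveI : Nontrivial (P : Subgroup G) := by
      rw [← Finite.one_lt_card_iff_nontrivial, S.card_P]; norm_num
    obtain ⟨⟨x, hx⟩, hx1'⟩ := exists_ne (1 : (P : Subgroup G))
    have hx1 : x ≠ 1 := fun h => hx1' (Subtype.ext h)
    have hxo : orderOf x = 11 ^ 1 := by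
      rw [pow_one, ← Nat.card_zpowers, Small.zpowers_eq_of_prime_card S.card_P hx hx1, S.card_P]
    have hc : Commute x z := Subgroup.mem_centralizer_iff.1 hz x hx
    have hR : pReg 11 (x * z) = z := by
      have h1 : x = pPt 11 (x * z) := eq_pPt rfl hc hxo hreg
      have h2 := pPt_mul_pReg (p := 11) (x * z)
      rw [← h1] at h2
      exact mul_left_cancel h2
    have h := charVal_sub_pReg_mem (p := 11) S.hM ψ.2.isCharacter (x * z)
    rw [hR, S.val ψ hψ x hx hx1 z hz hreg, hk] at h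
    refine int_dvd_of_memLocalIdeal S.hM ?_
    push_cast
    exact h
  have hXd : ∀ ψ ∈ S.X, ∀ k : ℤ, (ψ : G → ℂ) z = k → (11 : ℤ) ∣ (cdeg ψ : ℤ) - k := by
    intro ψ hψ k hk
    have h1 := hX ψ hψ k hk
    have h2 := Int.modEq_iff_dvd.1 (S.cong ψ hψ).symm
    rcases S.sign ψ (S.mem_Z.2 (Or.inr hψ)) with h | h <;> rw [h] at h1 h2
    · have := dvd_add h2 h1
      ring_nf at this ⊢
      omega
    · omega
  rcases S.mem_Z.1 hχ with rfl | hχX
  swap
  · exact hXd χ hχX m hm
  choose! k hk using hint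
  have h := S.rel z hreg
  rw [S.Z_eq, Finset.sum_insert S.θ_notMem, hm,
    Finset.sum_congr rfl (g := fun ψ => ((S.σ ψ * k ψ : ℤ) : ℂ)) fun ψ hψ => by
      rw [hk ψ hψ]; push_cast; rfl, ← Int.cast_sum, ← Int.cast_mul, ← Int.cast_add, Int.cast_eq_zero] at h
  have hcX : (e : ℤ) = ∑ ψ ∈ S.X, (1 : ℤ) := by
    rw [Finset.sum_const, nsmul_one]
    exact_mod_cast S.card_X.symm
  have h1 : (11 : ℤ) ∣ ∑ ψ ∈ S.X, S.σ ψ * k ψ - (e : ℤ) := by
    rw [hcX, ← Finset.sum_sub_distrib]
    refine Finset.dvd_sum fun ψ hψ => ?_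
    have := hX ψ hψ _ (hk ψ hψ)
    rcases S.sign ψ (S.mem_Z.2 (Or.inr hψ)) with h | h <;> rw [h] at this ⊢ <;> push_cast <;> omega
  have h2 := Int.modEq_iff_dvd.1 S.congθ.symm
  rcases S.sign S.θ (S.mem_Z.2 (Or.inl rfl)) with h' | h' <;> rw [h'] at h h2 <;> omega

/-- Two characters of degree 32 or 120, one of degree 32, and one of degree 45 leave no room at an
involution centralising the Sylow subgroup; similarly two of degree 32 and the exceptional pair of
degree 27. -/
theorem bound_false {z : G} (hz : z ∈ Subgroup.centralizer ((P : Subgroup G) : Set G))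
    (hz2 : orderOf z = 2) {a b : IrrCharacter G} (ha : a ∈ S.Z) (hb : b ∈ S.Z) (hab : a ≠ b)
    (hda : cdeg a = 32) (hdb : cdeg b = 32 ∨ cdeg b = 120)
    (h3 : (∃ c ∈ S.Z, cdeg c = 45) ∨ (cdeg b = 32 ∧ a ≠ S.θ ∧ b ≠ S.θ ∧ cdeg S.θ = 27 ∧ S.Y.card = 2)) :
    False := by
  classical
  haveI := hG.1
  have hnc := not_cyclic hG
  have hz1 : z ≠ 1 := fun h => by rw [h, orderOf_one] at hz2; norm_num at hz2
  have hreg : ¬ 11 ∣ orderOf z := by rw [hz2]; norm_num
  choose! v hv using fun χ (_ : χ ∈ (Finset.univ : Finset (IrrCharacter G))) => involution_value (perfect hG) χ hz2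
  have hfact : ∀ χ ∈ S.Z, 2 ≤ cdeg χ → (4 : ℤ) ∣ (cdeg χ : ℤ) - v χ ∧ (11 : ℤ) ∣ (cdeg χ : ℤ) - v χ ∧
      (v χ).natAbs < cdeg χ ∧ (cdeg χ : ℤ) ∣ ((Subgroup.centralizer ({z} : Set G)).index : ℤ) * v χ := by
    intro χ hχ h2
    obtain ⟨h1, h4, hle⟩ := hv χ (Finset.mem_univ _)
    refine ⟨h4, value_congr hG S hz hreg hχ h1 (fun ψ _ => ⟨v ψ, (hv ψ (Finset.mem_univ _)).1⟩),
      natAbs_lt_deg hnc (fun e => ?_) hz1 h1 hle, deg_dvd_class_mul χ h1⟩
    rw [e] at h2
    have h1' : cdeg (trivChar G) = 1 := Small.charDegree_one'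
    omega
  have hCI := Subgroup.card_mul_index (Subgroup.centralizer ({z} : Set G))
  rw [hG.2] at hCI
  set C := Nat.card (Subgroup.centralizer ({z} : Set G))
  set I := (Subgroup.centralizer ({z} : Set G)).index
  have hsum : ∀ T : Finset (IrrCharacter G), ∑ χ ∈ T, (v χ) ^ 2 ≤ (C : ℤ) := fun T => by
    have h := sum_sq_le T z
    rw [Finset.sum_congr rfl (g := fun χ => ((v χ ^ 2 : ℤ) : ℝ)) fun χ _ => by
      rw [(hv χ (Finset.mem_univ _)).1, Complex.norm_intCast, sq_abs]; push_cast; rfl] at h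
    exact_mod_cast h
  obtain ⟨a4, a11, alt, adv⟩ := hfact a ha (by omega)
  obtain ⟨b4, b11, blt, bdv⟩ := hfact b hb (by omega)
  have hva : v a = -12 := by omega
  have hvb : 144 ≤ (v b) ^ 2 := by
    have key : ∀ d w : ℤ, (d = 32 ∨ d = 120) → (4 : ℤ) ∣ d - w → (11 : ℤ) ∣ d - w → w ≤ -12 ∨ 12 ≤ w := by
      intro d w hd h4 h11
      rcases hd with rfl | rfl <;> omega
    rcases key (cdeg b : ℤ) (v b) (by exact_mod_cast hdb) b4 b11 with h | h <;> nlinarith
  have h8 : 8 ∣ I := by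
    rw [hva, hda] at adv
    omega
  rcases h3 with ⟨c, hc, hdc⟩ | ⟨hdb', haθ, hbθ, hdθ, hY⟩
  · obtain ⟨c4, c11, clt, cdv⟩ := hfact c hc (by omega)
    have hvc : v c = 1 ∨ v c = -43 := by omega
    have h45 : 45 ∣ I := by
      rw [hdc] at cdv
      rcases hvc with h | h <;> rw [h] at cdv
      · omega
      · have : (45 : ℤ) ∣ (I : ℤ) := (Int.isCoprime_iff_gcd_eq_one.2 (by decide : Int.gcd 45 (-43) = 1)).dvd_of_dvd_mul_right cdv
        omega
    have h360 : 360 ∣ I := Nat.Coprime.mul_dvd_of_dvd_of_dvd (by norm_num : Nat.Coprime 8 45) h8 h45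
    have hC : C ≤ 264 := by
      obtain ⟨j, hj⟩ := h360
      have : C * j = 264 := by rw [hj] at hCI; nlinarith
      exact Nat.le_of_dvd (by norm_num) ⟨j, this.symm⟩
    have h := hsum {a, b, c}
    rw [Finset.sum_insert (by simp [hab]; intro e; rw [e] at hda; omega),
      Finset.sum_insert (by simp; intro e; rw [e] at hdb; omega), Finset.sum_singleton, hva] at h
    have : 1 ≤ (v c) ^ 2 := by rcases hvc with h | h <;> rw [h] <;> norm_num
    have hC' : (C : ℤ) ≤ 264 := by exact_mod_cast hC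
    linarith
  · obtain ⟨θ4, θ11, θlt, θdv⟩ := hfact S.θ (S.mem_Z.2 (Or.inl rfl)) (by omega)
    rw [hdθ] at θ4 θ11 θlt θdv
    have hvθ : v S.θ = -17 := by omega
    rw [hvθ] at θdv
    have h27 : 27 ∣ I := by
      have : (27 : ℤ) ∣ (I : ℤ) := (Int.isCoprime_iff_gcd_eq_one.2 (by decide : Int.gcd 27 (-17) = 1)).dvd_of_dvd_mul_right θdv
      omega
    have h216 : 216 ∣ I := Nat.Coprime.mul_dvd_of_dvd_of_dvd (by norm_num : Nat.Coprime 8 27) h8 h27
    have hC : C ≤ 440 := by
      obtain ⟨j, hj⟩ := h216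
      have : C * j = 440 := by rw [hj] at hCI; nlinarith
      exact Nat.le_of_dvd (by norm_num) ⟨j, this.symm⟩
    have hYv : ∀ ψ ∈ S.Y, v ψ = -17 := fun ψ hψ => by
      have := S.agree ψ hψ z hreg
      rw [(hv ψ (Finset.mem_univ _)).1, (hv S.θ (Finset.mem_univ _)).1, Int.cast_inj, hvθ] at this
      exact this
    have hnY : ∀ χ ∈ S.Z, χ ≠ S.θ → χ ∉ S.Y := fun χ hχ hne =>
      Finset.disjoint_left.1 S.disj ((S.mem_Z.1 hχ).resolve_left hne)
    have hdj : Disjoint ({a, b} : Finset (IrrCharacter G)) S.Y := by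
      simp only [Finset.disjoint_insert_left, Finset.disjoint_singleton_left]
      exact ⟨hnY a ha haθ, hnY b hb hbθ⟩
    have h := hsum ({a, b} ∪ S.Y)
    rw [Finset.sum_union hdj, Finset.sum_insert (by simp [hab]), Finset.sum_singleton, hva,
      Finset.sum_congr rfl (fun ψ hψ => by rw [hYv ψ hψ] : ∀ ψ ∈ S.Y, v ψ ^ 2 = (-17 : ℤ) ^ 2),
      Finset.sum_const, hY] at h
    have hC' : (C : ℤ) ≤ 440 := by exact_mod_cast hC
    norm_num at h
    linarith

theorem signed_X {χ : IrrCharacter G} (hχ : χ ∈ S.Z) (hc : (11 : ℤ) ∣ S.σ χ * (cdeg χ : ℤ) - 1)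
    (hbig : 22 ≤ cdeg χ) : S.σ χ * (cdeg χ : ℤ) ∈ ([-32, 45, -54, -120, 144] : List ℤ) := by
  refine x_cands (cdeg χ) (List.mem_range.2 ?_) _ ?_ (S.deg_dvd (card_eq hG) hχ) hbig hc
  · have h := MEleven.sum_sq_deg_le ({χ} : Finset (IrrCharacter G))
    rw [Finset.sum_singleton, hG.2] at h
    by_contra hn
    have := Nat.pow_le_pow_left (not_lt.1 hn) 2
    exact absurd (this.trans h) (by norm_num)
  · rcases S.sign χ hχ with h | h <;> simp [h]

end Shape

/-- Sylow 11-subgroups: centraliser of order 11, automizer of order 5, 1728 of them. -/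
theorem eleven_data [Fact (Nat.Prime 11)] : ∃ P : Sylow 11 G,
    Nonempty (Small.Shape P 5) ∧ Nat.card (Subgroup.centralizer ((P : Subgroup G) : Set G)) = 11 ∧
      Nat.card (Sylow 11 G) = 1728 := by
  classical
  haveI := hG.1
  have hnc := not_cyclic hG
  obtain ⟨P, e, c, n, ⟨S⟩, hC, hnec, hn1, hnne, he2, hed, hn⟩ :=
    Small.block_setup (p := 11) (G := G) (by norm_num) (card_eq hG) (by norm_num) (by norm_num)
  have hsq : ¬ 11 ^ 2 ∣ Nat.card G := by rw [hG.2]; norm_num
  have hnd : n ∈ (Nat.divisors 8640).filter (fun n => n % 11 = 1) := Finset.mem_filter.2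
    ⟨Nat.mem_divisors.2 ⟨⟨e * c, by rw [← mul_assoc]; exact hnec.symm⟩, by norm_num⟩, hn1⟩
  rw [show (Nat.divisors 8640).filter (fun n => n % 11 = 1) = {1, 12, 45, 144, 320, 540, 1728} by
    decide +kernel] at hnd
  simp only [Finset.mem_insert, Finset.mem_singleton] at hnd
  have hsmall : ∀ χ ∈ S.Z, χ ≠ Small.one' G → c ≠ 1 → 22 ≤ cdeg χ := by
    intro χ hχ hne hc1
    by_contra hlt
    have := S.small hnc hsq hχ hne (by omega)
    rw [hC] at this
    omega
  have he : e = 2 ∨ e = 5 ∨ e = 10 := by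
    have := Nat.le_of_dvd (by norm_num) hed
    interval_cases e <;> simp_all
  have hc1 : c = 1 := by
    by_contra hc1
    rcases he with he | he | he
    · obtain ⟨χ, hχX, hne, -, -, hθ, hd2, hf2, hdd, hfd, hdf, hsum⟩ := S.two_cases hnc (card_eq hG) he (by norm_num)
      have hb1 := hsmall χ (S.mem_Z.2 (Or.inr hχX)) hne hc1
      have hb2 := hsmall S.θ (S.mem_Z.2 (Or.inl rfl)) hθ hc1
      rw [hG.2] at hsum
      have hlt : cdeg χ < 127 := by
        by_contra hn
        have e1 := Nat.pow_le_pow_left (not_lt.1 hn) 2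
        have e2 := Nat.pow_le_pow_left (show 126 ≤ charDegree (S.θ : G → ℂ) by
          rcases hdf with ⟨-, -, -, h⟩ | ⟨-, -, -, h⟩ <;> omega) 2
        norm_num at hsum e1 e2 ⊢
        linarith
      have := eq_two_cases (cdeg χ) (List.mem_range.2 hlt) (charDegree (S.θ : G → ℂ))
        (by rcases hdf with ⟨-, -, -, h⟩ | ⟨-, -, -, h⟩
            · simp; omega
            · simp; omega) hd2 hf2 hdd hfd
        (by rcases hdf with ⟨-, -, h', h⟩ | ⟨-, -, h', h⟩
            · exact Or.inl ⟨h', h⟩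
            · exact Or.inr ⟨h', h⟩)
      omega
    all_goals
      have h2c : 2 ∣ Nat.card (Subgroup.centralizer ((P : Subgroup G) : Set G)) := by
        rw [hC]
        rw [he] at hnec
        rcases hnd with h | h | h | h | h | h | h <;> rw [h] at hnec hnne <;> omega
      obtain ⟨⟨z, hz⟩, hz2⟩ := exists_prime_orderOf_dvd_card' 2 h2c
      rw [Subgroup.orderOf_mk] at hz2
    · subst he
      have h1 := S.one_mem_X (by norm_num)
      have hθ1 := S.θ_ne_one (by norm_num)
      have hc4 : (S.X.erase (Small.one' G)).toList.length = 4 := by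
        rw [Finset.length_toList, Finset.card_erase_of_mem h1, S.card_X]
      obtain ⟨a, b, c', d, hl⟩ : ∃ a b c' d, (S.X.erase (Small.one' G)).toList = [a, b, c', d] := by
        match h : (S.X.erase (Small.one' G)).toList, hc4 with
        | [a, b, c', d], _ => exact ⟨a, b, c', d, rfl⟩
      have hnd' := (S.X.erase (Small.one' G)).nodup_toList
      rw [hl] at hnd'
      have hmem : ∀ x ∈ [a, b, c', d], x ∈ S.X ∧ x ≠ Small.one' G := fun x hx => by
        rw [← hl, Finset.mem_toList, Finset.mem_erase] at hx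
        exact ⟨hx.2, hx.1⟩
      have hval : ∀ x ∈ [a, b, c', d], S.σ x * (cdeg x : ℤ) ∈ ([-32, 45, -54, -120, 144] : List ℤ) := fun x hx =>
        signed_X hG S (S.mem_Z.2 (Or.inr (hmem x hx).1)) (Int.modEq_iff_dvd.1 (S.cong x (hmem x hx).1).symm)
          (hsmall x (S.mem_Z.2 (Or.inr (hmem x hx).1)) (hmem x hx).2 hc1)
      have hZθ : S.θ ∈ S.Z := S.mem_Z.2 (Or.inl rfl)
      have hsq' := S.sum_sq
      have hrel := S.rel_deg
      have hsumX : ∀ f : IrrCharacter G → ℤ, ∑ χ ∈ S.X, f χ = f (Small.one' G) + (f a + f b + f c' + f d) := by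
        intro f
        rw [← Finset.add_sum_erase _ _ h1, ← Finset.sum_map_toList, hl]
        simp [add_assoc]
      rw [S.Z_eq, Finset.sum_insert S.θ_notMem, hsumX, S.sign_one, Small.charDegree_one'] at hrel
      have hsq2 : (∑ χ ∈ S.X, ((charDegree (χ : G → ℂ) : ℤ)) ^ 2) + 2 * (charDegree (S.θ : G → ℂ) : ℤ) ^ 2 ≤ 95040 := by
        rw [hG.2] at hsq'
        norm_num at hsq'
        exact_mod_cast hsq'
      rw [hsumX, Small.charDegree_one'] at hsq2
      have hθc : S.σ S.θ * (cdeg S.θ : ℤ) ∈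
          ([-27, -60, 72, 160, 192, 270, -192, -160, -72, 60, 27, -270] : List ℤ) := by
        refine theta_cands (cdeg S.θ) (List.mem_range.2 ?_) _ ?_ (S.deg_dvd (card_eq hG) hZθ)
          (hsmall _ hZθ hθ1 hc1) ?_
        · by_contra hn
          have e2 := Nat.pow_le_pow_left (not_lt.1 hn) 2
          rw [hG.2] at hsq'
          norm_num at hsq'
          omega
        · rcases S.sign S.θ hZθ with h | h <;> simp [h]
        · have := Int.modEq_iff_dvd.1 S.congθ.symm
          rwa [sub_neg_eq_add] at this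
      have hsqσ : ∀ x ∈ S.Z, S.σ x * (cdeg x : ℤ) * (S.σ x * (cdeg x : ℤ)) = (cdeg x : ℤ) ^ 2 := fun x hx => by
        rcases S.sign x hx with h | h <;> rw [h] <;> ring
      have hZx : ∀ x ∈ [a, b, c', d], x ∈ S.Z := fun x hx => S.mem_Z.2 (Or.inr (hmem x hx).1)
      obtain ⟨h32, hrest⟩ := five_cands _ (hval a (by simp)) _ (hval b (by simp)) _ (hval c' (by simp))
        _ (hval d (by simp)) _ hθc (by
          have := Int.modEq_iff_dvd.1 S.congθ.symm
          rwa [sub_neg_eq_add] at this)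
        (by push_cast at hrel; linarith)
        (by rw [hsqσ _ (hZx a (by simp)), hsqσ _ (hZx b (by simp)), hsqσ _ (hZx c' (by simp)),
              hsqσ _ (hZx d (by simp)), hsqσ _ hZθ]
            push_cast at hsq2; linarith)
      have hget : ∀ k : ℤ, k ∈ [a, b, c', d].map (fun x => S.σ x * (cdeg x : ℤ)) →
          ∃ x ∈ [a, b, c', d], S.σ x * (cdeg x : ℤ) = k := fun k hk => by
        obtain ⟨x, hx, h⟩ := List.mem_map.1 hk
        exact ⟨x, hx, h⟩
      have habs : ∀ x ∈ S.Z, ∀ k : ℤ, S.σ x * (cdeg x : ℤ) = k → cdeg x = k.natAbs := fun x hx k hk => by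
        rw [← hk]
        rcases S.sign x hx with h | h <;> rw [h] <;> simp
      have hne : ∀ x ∈ [a, b, c', d], x ≠ S.θ := fun x hx e => S.θ_notMem (e ▸ (hmem x hx).1)
      obtain ⟨p1, hp1, hk1⟩ := hget (-32) h32
      have hd1 : cdeg p1 = 32 := habs _ (hZx p1 hp1) _ hk1
      have htwo : 2 ≤ [S.σ a * (cdeg a : ℤ), S.σ b * (cdeg b : ℤ), S.σ c' * (cdeg c' : ℤ), S.σ d * (cdeg d : ℤ)].count (-32) →
          ∃ p2 ∈ [a, b, c', d], p2 ≠ p1 ∧ cdeg p2 = 32 := fun h => by
        by_contra hno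
        push Not at hno
        have hle : ([a, b, c', d].map (fun x => S.σ x * (cdeg x : ℤ))).count (-32) ≤ 1 := by
          rw [List.count_eq_countP, List.countP_map]
          refine le_trans (List.countP_mono_left fun x hx hx32 => ?_) (List.nodup_iff_count_le_one.1 hnd' p1)
          simp only [Function.comp_apply, beq_iff_eq] at hx32 ⊢
          by_contra hx1
          exact hno x hx hx1 (habs _ (hZx x hx) _ hx32)
        simp only [List.map_cons, List.map_nil] at hle
        omega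
      rcases hrest with ⟨h45, h2⟩ | ⟨h2, ht⟩
      · obtain ⟨p3, hp3, hk3⟩ := hget 45 h45
        rcases h2 with h2 | h2
        · obtain ⟨p2, hp2, hne2, hd2⟩ := htwo h2
          exact bound_false hG S hz hz2 (hZx p1 hp1) (hZx p2 hp2) hne2.symm hd1 (Or.inl hd2)
            (Or.inl ⟨p3, hZx p3 hp3, habs _ (hZx p3 hp3) _ hk3⟩)
        · obtain ⟨p2, hp2, hk2⟩ := hget (-120) h2
          have hd2 : cdeg p2 = 120 := habs _ (hZx p2 hp2) _ hk2
          exact bound_false hG S hz hz2 (hZx p1 hp1) (hZx p2 hp2) (fun e => by rw [e] at hd1; omega) hd1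
            (Or.inr hd2) (Or.inl ⟨p3, hZx p3 hp3, habs _ (hZx p3 hp3) _ hk3⟩)
      · obtain ⟨p2, hp2, hne2, hd2⟩ := htwo h2
        exact bound_false hG S hz hz2 (hZx p1 hp1) (hZx p2 hp2) hne2.symm hd1 (Or.inl hd2)
          (Or.inr ⟨hd2, hne p1 hp1, hne p2 hp2, habs _ hZθ _ ht, by rw [S.card_Y]⟩)
    · subst he
      set T := S.Z.erase (Small.one' G) with hT
      have hval : ∀ x ∈ T, S.σ x * (cdeg x : ℤ) ∈ ([-32, 45, -54, -120, 144] : List ℤ) := fun x hx => by
        obtain ⟨hne, hxZ⟩ := Finset.mem_erase.1 hx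
        exact signed_X hG S hxZ (Int.modEq_iff_dvd.1 (S.cong_all (by norm_num) hxZ).symm)
          (hsmall x hxZ hne hc1)
      have hrel := S.rel_deg
      rw [← Finset.add_sum_erase _ _ S.one_mem, S.sign_one, Small.charDegree_one', ← hT] at hrel
      set A := T.filter fun x => S.σ x * (cdeg x : ℤ) = -32 with hA
      have h3 : (3 : ℤ) ∣ ∑ x ∈ T, S.σ x * (cdeg x : ℤ) + 32 * A.card := by
        rw [hA, Finset.card_filter, Nat.cast_sum, Finset.mul_sum, ← Finset.sum_add_distrib]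
        refine Finset.dvd_sum fun x hx => ?_
        have := hval x hx
        simp only [List.mem_cons, List.not_mem_nil, or_false] at this
        rcases this with h | h | h | h | h <;> rw [h] <;> norm_num
      have hA2 : 2 ≤ A.card := by omega
      obtain ⟨p1, hp1, p2, hp2, h12⟩ := Finset.one_lt_card.1 hA2
      obtain ⟨p3, hp3, hk3⟩ : ∃ x ∈ T, S.σ x * (cdeg x : ℤ) = 45 := by
        by_contra hno
        push Not at hno
        have h2 : (2 : ℤ) ∣ ∑ x ∈ T, S.σ x * (cdeg x : ℤ) := Finset.dvd_sum fun x hx => by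
          have := hval x hx
          have := hno x hx
          simp only [List.mem_cons, List.not_mem_nil, or_false] at *
          omega
        omega
      have hZT : ∀ x ∈ T, x ∈ S.Z := fun x hx => Finset.mem_of_mem_erase hx
      have habs : ∀ x ∈ T, ∀ k : ℤ, S.σ x * (cdeg x : ℤ) = k → cdeg x = k.natAbs := fun x hx k hk => by
        rw [← hk]
        rcases S.sign x (hZT x hx) with h | h <;> rw [h] <;> simp
      obtain ⟨hp1T, hk1⟩ := Finset.mem_filter.1 hp1
      obtain ⟨hp2T, hk2⟩ := Finset.mem_filter.1 hp2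
      exact bound_false hG S hz hz2 (hZT _ hp1T) (hZT _ hp2T) h12 (habs _ hp1T _ hk1)
        (Or.inl (habs _ hp2T _ hk2)) (Or.inl ⟨p3, hZT _ hp3, habs _ hp3 _ hk3⟩)
  subst hc1
  have he5 : e = 5 ∧ n = 1728 := by
    rcases he with rfl | rfl | rfl <;> rcases hnd with rfl | rfl | rfl | rfl | rfl | rfl | rfl <;> omega
  obtain ⟨rfl, rfl⟩ := he5
  exact ⟨P, ⟨S⟩, hC, hn.symm⟩

end Cfsg.Lib.MTwelveOrder
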