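import Cfsg.Agent.Lib.MTwelveOrder.Structure
import Cfsg.Agent.Lib.MTwelveOrder.Algebra
import Cfsg.Agent.Lib.JankoFourLocal.Group

/-!
The 2-core of the centraliser of a 2-central involution is extraspecial of order 32 and contains
another conjugate of the involution.
-/

set_option autoImplicit false
set_option linter.style.haveILetI false
set_option linter.unusedSectionVars false
set_option maxRecDepth 100000

namespace Cfsg.Lib.MTwelveOrder

open Cfsg Cfsg.Lib.Char Cfsg.Lib.Block
open Subgroup (centralizer zpowers)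

universe u

local instance fact_three_extra : Fact (Nat.Prime 3) := ⟨by norm_num⟩
local instance fact_two_extra : Fact (Nat.Prime 2) := ⟨by norm_num⟩
local instance fact_eleven_extra : Fact (Nat.Prime 11) := ⟨by norm_num⟩

variable {G : Type u} [Group G] [Fintype G]

theorem core_le (t : G) : core t ≤ centralizer ({t} : Set G) := Subgroup.map_subtype_le _

theorem core_commute {t q : G} (hq : q ∈ core t) : Commute t q :=
  (Subgroup.mem_centralizer_singleton_iff.1 (core_le t hq)).symm

theorem core_conj {t g q : G} (hg : g ∈ centralizer ({t} : Set G)) (hq : q ∈ core t) : g * q * g⁻¹ ∈ core t := by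
  obtain ⟨y, hy, rfl⟩ := hq
  exact ⟨⟨g, hg⟩ * y * ⟨g, hg⟩⁻¹, Subgroup.Normal.conj_mem inferInstance y hy ⟨g, hg⟩, rfl⟩

theorem mem_core_self {t : G} (ht : Central t) : t ∈ core t := by
  set L := centralizer ({t} : Set G)
  have htL : t ∈ L := Subgroup.mem_centralizer_singleton_iff.2 rfl
  have hc : (⟨t, htL⟩ : L) ∈ Subgroup.center L := Subgroup.mem_center_iff.2 fun g =>
    Subtype.ext (Subgroup.mem_centralizer_singleton_iff.1 g.2)
  have hN : (zpowers (⟨t, htL⟩ : L)).Normal := ⟨fun n hn g => by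
    have : n ∈ Subgroup.center L := (Subgroup.zpowers_le.2 hc) hn
    rwa [Subgroup.mem_center_iff.1 this g, mul_inv_cancel_right]⟩
  refine ⟨⟨t, htL⟩, Core.le_pCore' hN (IsPGroup.of_card (n := 1) ?_) (Subgroup.mem_zpowers _), rfl⟩
  rw [Nat.card_zpowers, Subgroup.orderOf_mk, ht.ord, pow_one]

theorem eq_or_of_mem_zpowers {t a : G} (ht : orderOf t = 2) (ha : a ∈ zpowers t) : a = 1 ∨ a = t := by
  obtain ⟨k, rfl⟩ := Subgroup.mem_zpowers_iff.1 ha
  rw [← zpow_mod_orderOf t k, ht]
  rcases Int.emod_two_eq_zero_or_one k with h | h <;> simp [h]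

theorem conj_pow_three {s : G} (hs : orderOf s = 3) (x : G) :
    s * (s * (s * x * s⁻¹) * s⁻¹) * s⁻¹ = x := by
  have h : s * s * s = 1 := by
    rw [← pow_two, ← pow_succ]
    exact orderOf_dvd_iff_pow_eq_one.1 (by rw [hs])
  calc s * (s * (s * x * s⁻¹) * s⁻¹) * s⁻¹ = (s * s * s) * x * (s * s * s)⁻¹ := by group
    _ = x := by rw [h, inv_one, mul_one, one_mul]

/-- The centre of the core. -/
def zen (t : G) : Subgroup G := core t ⊓ centralizer (core t : Set G)

theorem zen_commute {t a b : G} (ha : a ∈ zen t) (hb : b ∈ core t) : Commute a b :=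
  ((Subgroup.mem_centralizer_iff.1 ha.2) b hb).symm

theorem zen_conj {t g a : G} (hg : g ∈ centralizer ({t} : Set G)) (ha : a ∈ zen t) : g * a * g⁻¹ ∈ zen t := by
  refine ⟨core_conj hg ha.1, Subgroup.mem_centralizer_iff.2 fun b hb => ?_⟩
  have h := (zen_commute ha (core_conj (inv_mem hg) hb)).eq
  rw [inv_inv] at h
  calc b * (g * a * g⁻¹) = g * ((g⁻¹ * b * g) * a) * g⁻¹ := by group
    _ = g * (a * (g⁻¹ * b * g)) * g⁻¹ := by rw [h]
    _ = _ := by group

theorem self_mem_zen {t : G} (ht : Central t) : t ∈ zen t :=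
  ⟨mem_core_self ht, Subgroup.mem_centralizer_iff.2 fun _ hb => (core_commute hb).symm.eq⟩

/-- A subgroup with all commutators with `x` in a group of order two has half of it centralising `x`. -/
theorem card_le_two_mul {H : Subgroup G} {x u : G}
    (h : ∀ a ∈ H, x * a * x⁻¹ * a⁻¹ = 1 ∨ x * a * x⁻¹ * a⁻¹ = u) :
    Nat.card H ≤ 2 * Nat.card (H ⊓ centralizer ({x} : Set G) : Subgroup G) := by
  classical
  set K := H ⊓ centralizer ({x} : Set G)
  by_cases hall : H ≤ centralizer ({x} : Set G)
  · have : Nat.card H ≤ Nat.card K := Subgroup.card_le_of_le (le_inf le_rfl hall)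
    omega
  obtain ⟨h0, hh0, hx0⟩ := SetLike.not_le_iff_exists.1 hall
  have hu : ∀ a ∈ H, a ∉ centralizer ({x} : Set G) → x * a * x⁻¹ * a⁻¹ = u := fun a ha hx =>
    (h a ha).resolve_left fun e => hx (Subgroup.mem_centralizer_singleton_iff.2
      (mul_inv_eq_iff_eq_mul.1 (mul_inv_eq_one.1 e)).symm)
  let F : H → K ⊕ K := fun a =>
    if ha : (a : G) ∈ centralizer ({x} : Set G) then Sum.inl ⟨a, a.2, ha⟩
    else Sum.inr ⟨h0⁻¹ * a, H.mul_mem (H.inv_mem hh0) a.2, Subgroup.mem_centralizer_singleton_iff.2 (by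
      have e1 : x * h0 * x⁻¹ = u * h0 := mul_inv_eq_iff_eq_mul.1 (hu h0 hh0 hx0)
      have e2 : x * (a : G) * x⁻¹ = u * a := mul_inv_eq_iff_eq_mul.1 (hu a a.2 ha)
      have e : x * (h0⁻¹ * (a : G)) * x⁻¹ = h0⁻¹ * a := by
        rw [show x * (h0⁻¹ * (a : G)) * x⁻¹ = (x * h0 * x⁻¹)⁻¹ * (x * (a : G) * x⁻¹) by group, e1, e2]
        group
      exact (mul_inv_eq_iff_eq_mul.1 e).symm)⟩
  have hF : Function.Injective F := by
    intro a b hab
    simp only [F] at hab
    split_ifs at hab with ha hb
    · exact Subtype.ext (congrArg (fun k : K ⊕ K => k.elim (fun x : K => (x : G)) (fun x : K => (x : G))) hab)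
    · exact Subtype.ext (mul_left_cancel (congrArg (fun k : K ⊕ K => k.elim (fun x : K => (x : G)) (fun x : K => (x : G))) hab))
  have := Nat.card_le_card_of_injective F hF
  rw [Nat.card_sum] at this
  omega

/-- A group of order 32 is commutative when it has a commutative subgroup of index two and an outside
element centralising it. -/
theorem commute_of_outside {Q D : Subgroup G} (hQ : Nat.card Q = 32) (hD : Nat.card D = 16) (hle : D ≤ Q)
    (hab : ∀ a ∈ D, ∀ b ∈ D, Commute a b) {z : G} (hz : z ∈ Q) (hzD : z ∉ D) (hc : ∀ a ∈ D, Commute z a) :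
    ∀ a ∈ Q, ∀ b ∈ Q, Commute a b := by
  have hsup : D ⊔ zpowers z = Q := by
    refine Subgroup.eq_of_le_of_card_ge (sup_le hle (Subgroup.zpowers_le.2 hz)) ?_
    obtain ⟨k, hk⟩ := Subgroup.card_dvd_of_le (le_sup_left : D ≤ D ⊔ zpowers z)
    have hne : Nat.card (D ⊔ zpowers z : Subgroup G) ≠ 16 := fun e => hzD (by
      rw [Subgroup.eq_of_le_of_card_ge (le_sup_left : D ≤ D ⊔ zpowers z) (by rw [e, hD])]
      exact Subgroup.mem_sup_right (Subgroup.mem_zpowers z))
    have hpos : 0 < Nat.card (D ⊔ zpowers z : Subgroup G) := Nat.card_pos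
    rw [hD] at hk
    rw [hQ]
    rcases k with _ | _ | k <;> omega
  have hD' : ∀ d ∈ D, Q ≤ centralizer ({d} : Set G) := fun d hd => hsup ▸
    sup_le (fun a ha => Subgroup.mem_centralizer_singleton_iff.2 (hab a ha d hd).eq)
      (Subgroup.zpowers_le.2 (Subgroup.mem_centralizer_singleton_iff.2 (hc d hd).eq))
  have hz' : Q ≤ centralizer ({z} : Set G) := hsup ▸
    sup_le (fun a ha => Subgroup.mem_centralizer_singleton_iff.2 (hc a ha).symm.eq)
      (Subgroup.zpowers_le.2 (Subgroup.mem_centralizer_singleton_iff.2 rfl))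
  intro a ha b hb
  have : Q ≤ centralizer ({b} : Set G) := hsup ▸
    sup_le (fun d hd => Subgroup.mem_centralizer_singleton_iff.2
        (Subgroup.mem_centralizer_singleton_iff.1 (hD' d hd hb)).symm)
      (Subgroup.zpowers_le.2 (Subgroup.mem_centralizer_singleton_iff.2
        (Subgroup.mem_centralizer_singleton_iff.1 (hz' hb)).symm))
  exact Subgroup.mem_centralizer_singleton_iff.1 (this ha)

theorem mem_or_mul_mem {H K : Subgroup G} (hle : H ≤ K) (h2 : Nat.card K = 2 * Nat.card H) {a b : G}
    (ha : a ∈ K) (hb : b ∈ K) : a * b ∈ H ↔ (a ∈ H ↔ b ∈ H) := by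
  have hi : (H.subgroupOf K).index = 2 := by
    have h := Subgroup.card_mul_index (H.subgroupOf K)
    rw [Nat.card_congr (Subgroup.subgroupOfEquivOfLe hle).toEquiv, h2, mul_comm 2] at h
    exact Nat.eq_of_mul_eq_mul_left Nat.card_pos h
  exact Subgroup.mul_mem_iff_of_index_two hi (a := ⟨a, ha⟩) (b := ⟨b, hb⟩)

variable (hG : IsM12 G)

include hG

theorem card_core {t : G} (ht : Central t) : Nat.card (core t) = 32 := by
  rw [core, Subgroup.card_map_of_injective (centralizer ({t} : Set G)).subtype_injective]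
  exact (central_shape hG ht).1

theorem two_power {t g : G} (ht : Central t) (hg : g ∈ core t) : ∃ k ≤ 5, orderOf g = 2 ^ k :=
  (Nat.dvd_prime_pow Nat.prime_two).1 (by simpa [card_core hG ht, -Nat.card_eq_fintype_card] using Subgroup.orderOf_dvd_natCard _ hg)

omit hG in
theorem exists_three {t : G} (ht : Central t) : ∃ s : G, orderOf s = 3 ∧ Commute t s := by
  obtain ⟨⟨s, hs⟩, h⟩ := exists_prime_orderOf_dvd_card' (G := centralizer ({t} : Set G)) 3
    (by rw [ht.card]; norm_num)
  exact ⟨s, by rwa [Subgroup.orderOf_mk] at h, (Subgroup.mem_centralizer_singleton_iff.1 hs).symm⟩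

/-- An element of order 3 fixes only the centre of the core. -/
theorem fixed {t s q : G} (ht : Central t) (hs : orderOf s = 3) (hc : Commute t s) (hq : q ∈ core t)
    (hsq : Commute s q) : q = 1 ∨ q = t := by
  set H := core t ⊓ centralizer ({s} : Set G)
  have h1 : Nat.card H ∣ 32 := card_core hG ht ▸ Subgroup.card_dvd_of_le inf_le_left
  have h2 : Nat.card H ∣ 6 :=
    card_inf_centralizer hG ht hs hc ▸ Subgroup.card_dvd_of_le (inf_le_inf_right _ (core_le t))
  have h3 : Nat.card H ∣ 2 := by simpa using Nat.dvd_gcd h1 h2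
  have htH : t ∈ H := ⟨mem_core_self ht, Subgroup.mem_centralizer_singleton_iff.2 hc.eq⟩
  have e : zpowers t = H := Subgroup.eq_of_le_of_card_ge (Subgroup.zpowers_le.2 htH)
    (by rw [Nat.card_zpowers, ht.ord]; exact Nat.le_of_dvd (by norm_num) h3)
  exact eq_or_of_mem_zpowers ht.ord (e ▸ ⟨hq, Subgroup.mem_centralizer_singleton_iff.2 hsq.symm.eq⟩)

/-- An invariant subgroup of the core containing the involution has order 2, 8 or 32. -/
theorem card_invariant {t s : G} (ht : Central t) (hs : orderOf s = 3) (hc : Commute t s) {H : Subgroup G}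
    (hle : H ≤ core t) (htH : t ∈ H) (hinv : ∀ x ∈ H, s * x * s⁻¹ ∈ H) :
    Nat.card H = 2 ∨ Nat.card H = 8 ∨ Nat.card H = 32 := by
  classical
  have h := card_set_mod_three (fun x => s * x * s⁻¹) (conj_pow_three hs) (H : Set G) hinv {1, t} fun x => by
    simp only [Finset.mem_insert, Finset.mem_singleton, SetLike.mem_coe]
    constructor
    · rintro (rfl | rfl)
      · exact ⟨one_mem H, by group⟩
      · exact ⟨htH, by rw [← hc.eq, mul_inv_cancel_right]⟩
    · rintro ⟨hx, hxs⟩
      exact fixed hG ht hs hc (hle hx) (mul_inv_eq_iff_eq_mul.1 hxs)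
  rw [Finset.card_pair ht.ne_one.symm] at h
  obtain ⟨k, hk, hkc⟩ := (Nat.dvd_prime_pow Nat.prime_two).1
    (show Nat.card H ∣ 2 ^ 5 by simpa [card_core hG ht, -Nat.card_eq_fintype_card] using Subgroup.card_dvd_of_le hle)
  have h' : Nat.card (H : Set G) = 2 ^ k := hkc
  rw [h'] at h
  rw [hkc]
  interval_cases k <;> simp_all [-Nat.card_eq_fintype_card]

theorem central_of_dvd {u : G} (hu : orderOf u = 2) (h : 32 ∣ Nat.card (centralizer ({u} : Set G))) : Central u := by
  refine ⟨hu, by_contra fun hne => ?_⟩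
  obtain ⟨E, ⟨M⟩⟩ := nonempty_twelve hG
  rcases (other_value hG M hu hne).1 with e | e <;> rw [e] at h <;> norm_num at h

/-- An element of the core centralising it of order two is 2-central. -/
theorem central_of_commute {t u : G} (ht : Central t) (hu : orderOf u = 2)
    (h : ∀ b ∈ core t, Commute u b) : Central u :=
  central_of_dvd hG hu (card_core hG ht ▸ Subgroup.card_dvd_of_le fun b hb =>
    Subgroup.mem_centralizer_singleton_iff.2 (h b hb).symm.eq)

variable {E : Eleven G}

theorem theta_one (M : Members E twelveT) : (E.S.θ : G → ℂ) 1 = 16 := by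
  rw [apply_one, (degrees_twelve hG M).2.2.2.2]
  norm_num

/-- The exceptional character vanishes at the 2-elements of order at least 4 with large centraliser. -/
theorem theta_zero (M : Members E twelveT) {u g : G} (hu : Central u) {k : ℕ} (hk : orderOf g = 2 ^ k)
    (hne : g * g ≠ 1) (hle : centralizer ({g} : Set G) ≤ centralizer ({u} : Set G))
    (h16 : 16 ∣ Nat.card (centralizer ({g} : Set G))) : (E.S.θ : G → ℂ) g = 0 := by
  classical
  have hreg : ¬ 11 ∣ orderOf g := by
    rw [hk]; intro h; have := (Fact.out : Nat.Prime 11).dvd_of_dvd_pow h; norm_num at this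
  obtain ⟨v, hv⟩ := rational_unique hG E (E.S.mem_Z.2 (Or.inl rfl))
    (unique_twelve hG M _ (E.S.mem_Z.2 (Or.inl rfl)) M.ne_θ) hreg
  set C := Nat.card (centralizer ({g} : Set G)) with hC
  have hgu : Commute u g :=
    (Subgroup.mem_centralizer_singleton_iff.1 (hle (Subgroup.mem_centralizer_singleton_iff.2 rfl))).symm
  have h3 : ¬ 3 ∣ C := by
    intro h
    obtain ⟨⟨s, hs'⟩, hs⟩ := exists_prime_orderOf_dvd_card' (G := centralizer ({g} : Set G)) 3 h
    rw [Subgroup.orderOf_mk] at hs
    have hus : Commute u s := (Subgroup.mem_centralizer_singleton_iff.1 (hle hs')).symm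
    have hmem : g ∈ centralizer ({u} : Set G) ⊓ centralizer ({s} : Set G) :=
      ⟨Subgroup.mem_centralizer_singleton_iff.2 hgu.symm.eq,
        Subgroup.mem_centralizer_singleton_iff.2 (Subgroup.mem_centralizer_singleton_iff.1 hs').symm⟩
    have h6 := Subgroup.orderOf_dvd_natCard _ hmem
    rw [card_inf_centralizer hG hu hs hus, hk, show (6 : ℕ) = 2 * 3 from rfl] at h6
    have h2 : orderOf g ∣ 2 := by
      rw [hk]
      exact (Nat.Coprime.pow_left k (by norm_num : Nat.Coprime 2 3)).dvd_of_dvd_mul_right h6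
    exact hne (by rw [← pow_two]; exact orderOf_dvd_iff_pow_eq_one.1 h2)
  have hd : C ∣ 192 := hu.card ▸ Subgroup.card_dvd_of_le hle
  have hC' : C = 16 ∨ C = 32 ∨ C = 64 := by
    have h64 : C ∣ 2 ^ 6 := ((Nat.Coprime.symm
      ((Nat.prime_three.coprime_iff_not_dvd).2 h3))).dvd_of_dvd_mul_left (show C ∣ 3 * 2 ^ 6 by norm_num; exact hd)
    obtain ⟨j, hj, hjc⟩ := (Nat.dvd_prime_pow Nat.prime_two).1 h64
    rw [hjc] at h16 ⊢
    interval_cases j <;> first | omega | norm_num at h16 ⊢
  have hdiv := deg_dvd_class_mul E.S.θ hv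
  rw [(degrees_twelve hG M).2.2.2.2] at hdiv
  have hI : C * (centralizer ({g} : Set G)).index = 95040 := by rw [hC, Subgroup.card_mul_index, hG.2]
  have hsum := sum_sq_le E.S.Y g
  rw [Finset.sum_congr (rfl : E.S.Y = E.S.Y) (g := fun _ => ‖((v : ℤ) : ℂ)‖ ^ 2)
    (fun θ' h' => by rw [E.S.agree θ' h' g hreg, hv]), Finset.sum_const, E.S.card_Y, ← hC] at hsum
  simp only [Complex.norm_intCast, sq_abs] at hsum
  norm_num at hsum
  rw [hv]
  have hsum' : 2 * v ^ 2 ≤ (C : ℤ) := by
    apply (Int.cast_le (R := ℝ)).1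
    push_cast
    linarith
  suffices v = 0 by rw [this, Int.cast_zero]
  set I := (centralizer ({g} : Set G)).index
  rcases hC' with e | e | e <;> rw [e] at hI hsum' <;> norm_num at hsum'
  · rw [show (I : ℤ) = 5940 by omega] at hdiv
    obtain ⟨hlo, hhi⟩ : -2 ≤ v ∧ v ≤ 2 := ⟨by nlinarith [sq_nonneg (v + 3)], by nlinarith [sq_nonneg (v - 3)]⟩
    interval_cases v <;> omega
  · rw [show (I : ℤ) = 2970 by omega] at hdiv
    obtain ⟨hlo, hhi⟩ : -4 ≤ v ∧ v ≤ 4 := ⟨by nlinarith [sq_nonneg (v + 5)], by nlinarith [sq_nonneg (v - 5)]⟩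
    interval_cases v <;> omega
  · rw [show (I : ℤ) = 1485 by omega] at hdiv
    obtain ⟨hlo, hhi⟩ : -5 ≤ v ∧ v ≤ 5 := ⟨by nlinarith [sq_nonneg (v + 6)], by nlinarith [sq_nonneg (v - 6)]⟩
    interval_cases v <;> omega

/-- The core is not commutative. -/
theorem not_abelian {t : G} (ht : Central t) : ¬ ∀ a ∈ core t, ∀ b ∈ core t, Commute a b := by
  classical
  intro hab
  obtain ⟨E, ⟨M⟩⟩ := nonempty_twelve hG
  have hvan : ∀ g ∈ core t, g ≠ 1 → (E.S.θ : G → ℂ) g = 0 := by
    intro g hg hg1
    by_cases hg2 : g * g = 1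
    · have hc := central_of_commute hG ht (orderOf_eq_prime (by rw [pow_two, hg2]) hg1) (fun b hb => hab g hg b hb)
      simpa using (central_column hG M hc).vθ
    obtain ⟨k, -, hk⟩ := two_power hG ht hg
    rcases k with _ | k
    · exact absurd (orderOf_eq_one_iff.1 (by simpa using hk)) hg1
    set u := g ^ 2 ^ k with hu
    have huo : orderOf u = 2 := by
      rw [hu, orderOf_pow' _ (by positivity), hk, pow_succ, Nat.gcd_eq_right (dvd_mul_right _ _),
        Nat.mul_div_cancel_left _ (by positivity)]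
    have huC := central_of_commute hG ht huo (fun b hb => hab u (pow_mem hg _) b hb)
    refine theta_zero hG M huC hk hg2 (fun c hc => Subgroup.mem_centralizer_singleton_iff.2
      (Commute.pow_right (Subgroup.mem_centralizer_singleton_iff.1 hc) _).eq) ?_
    exact (show 16 ∣ 32 by norm_num).trans (card_core hG ht ▸ Subgroup.card_dvd_of_le fun b hb =>
      Subgroup.mem_centralizer_singleton_iff.2 (hab b hb g hg).eq)
  obtain ⟨n, hn⟩ := MEleven.exists_nat_sum E.S.θ (core t)
  rw [Finset.sum_eq_single (1 : core t) (fun h _ hh => hvan h h.2 fun e => hh (Subtype.ext e)) (by simp),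
    OneMemClass.coe_one, theta_one hG M, card_core hG ht] at hn
  have : (16 : ℕ) = 32 * n := by exact_mod_cast hn
  omega

/-- Commutators in the core lie in the group of the involution. -/
theorem core_comm {t : G} (ht : Central t) {a b : G} (ha : a ∈ core t) (hb : b ∈ core t) :
    a * b * a⁻¹ * b⁻¹ = 1 ∨ a * b * a⁻¹ * b⁻¹ = t := by
  classical
  obtain ⟨s, hs, hc⟩ := exists_three ht
  have hsC : s ∈ centralizer ({t} : Set G) := Subgroup.mem_centralizer_singleton_iff.2 hc.symm.eq
  set Q := core t with hQdef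
  set N := (zpowers t).subgroupOf Q with hN
  have htc : ∀ k ∈ zpowers t, ∀ q ∈ Q, Commute k q := fun k hk q hq => by
    rcases eq_or_of_mem_zpowers ht.ord hk with rfl | rfl
    exacts [Commute.one_left q, core_commute hq]
  haveI : N.Normal := ⟨fun n hn g => by
    have e : g * n * g⁻¹ = n := by
      apply Subtype.ext
      show (g : G) * n * (g : G)⁻¹ = n
      rw [← (htc _ (Subgroup.mem_subgroupOf.1 hn) _ g.2).eq, mul_inv_cancel_right]
    rwa [e]⟩
  have hsC' : s⁻¹ ∈ centralizer ({t} : Set G) := inv_mem hsC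
  let e : Q ≃* Q :=
    { toFun := fun q => ⟨s * q * s⁻¹, core_conj hsC q.2⟩
      invFun := fun q => ⟨s⁻¹ * q * s, by simpa using core_conj hsC' q.2⟩
      left_inv := fun q => Subtype.ext (by simp only; group)
      right_inv := fun q => Subtype.ext (by simp only; group)
      map_mul' := fun p q => Subtype.ext (by simp only [Subgroup.coe_mul]; group) }
  have hfixN : ∀ q : Q, q ∈ N → e q = q := fun q hq => Subtype.ext (by
    rcases eq_or_of_mem_zpowers ht.ord (Subgroup.mem_subgroupOf.1 hq) with h | h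
    · show s * (q : G) * s⁻¹ = q
      rw [h]; group
    · show s * (q : G) * s⁻¹ = q
      rw [h, ← hc.eq, mul_inv_cancel_right])
  have hmap : N.map e.toMonoidHom = N := by
    ext q
    constructor
    · rintro ⟨p, hp, rfl⟩
      show e p ∈ N
      rwa [hfixN p hp]
    · exact fun hq => ⟨q, hq, hfixN q hq⟩
  let φ : Q ⧸ N ≃* Q ⧸ N := QuotientGroup.congr N N e hmap
  have hφ : ∀ q : Q, φ q = (e q : Q ⧸ N) := fun q => QuotientGroup.congr_mk N N e hmap q
  have h16 : Nat.card (Q ⧸ N) = 16 := by
    have h := Subgroup.card_eq_card_quotient_mul_card_subgroup N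
    rw [card_core hG ht, Nat.card_congr (Subgroup.subgroupOfEquivOfLe
      (Subgroup.zpowers_le.2 (mem_core_self ht))).toEquiv, Nat.card_zpowers, ht.ord] at h
    omega
  have h3 : ∀ x, φ (φ (φ x)) = x := by
    intro x
    induction x using QuotientGroup.induction_on with
    | H q => rw [hφ, hφ, hφ]; exact congrArg _ (Subtype.ext (conj_pow_three hs q))
  have hfix : ∀ x, φ x = x → x = 1 := by
    intro x hx
    induction x using QuotientGroup.induction_on with
    | H q =>
      rw [hφ, QuotientGroup.eq] at hx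
      rw [QuotientGroup.eq_one_iff]
      have key : Commute s (q : G) := by
        rcases eq_or_of_mem_zpowers ht.ord (Subgroup.mem_subgroupOf.1 hx) with h | h
        · exact mul_inv_eq_iff_eq_mul.1 (inv_mul_eq_one.1 h)
        · exfalso
          have h' : (q : G) = s * q * s⁻¹ * t := by
            rw [← h]
            show (q : G) = s * q * s⁻¹ * ((s * q * s⁻¹)⁻¹ * q)
            group
          have e1 : s * (q : G) * s⁻¹ = q * t := by
            conv_rhs => rw [h', mul_assoc, ht.sq, mul_one]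
          have e3 := conj_pow_three hs (q : G)
          have hst : s * t * s⁻¹ = t := by rw [← hc.eq, mul_inv_cancel_right]
          have hstep : ∀ y, s * (y * t) * s⁻¹ = s * y * s⁻¹ * t := fun y => by
            conv_rhs => rw [← hst]
            group
          rw [e1, hstep, e1, hstep, hstep, e1] at e3
          simp only [mul_assoc, ht.sq, mul_one] at e3
          exact ht.ne_one (mul_left_cancel (e3.trans (mul_one _).symm))
      rw [hN, Subgroup.mem_subgroupOf]
      rcases fixed hG ht hs hc q.2 key with h | h <;> rw [h]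
      exacts [one_mem _, Subgroup.mem_zpowers t]
  have hab := commute_of_fixed_point_free h16 φ h3 hfix (⟨a, ha⟩ : Q) (⟨b, hb⟩ : Q)
  refine eq_or_of_mem_zpowers ht.ord ?_
  have : (⟨a, ha⟩ : Q) * ⟨b, hb⟩ * (⟨a, ha⟩ : Q)⁻¹ * (⟨b, hb⟩ : Q)⁻¹ ∈ N := by
    rw [← QuotientGroup.eq_one_iff, QuotientGroup.mk_mul, QuotientGroup.mk_mul, QuotientGroup.mk_mul, hab.eq,
      QuotientGroup.mk_inv, QuotientGroup.mk_inv]
    group
  exact Subgroup.mem_subgroupOf.1 this

theorem card_zen {t : G} (ht : Central t) : Nat.card (zen t) = 2 ∨ Nat.card (zen t) = 8 := by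
  obtain ⟨s, hs, hc⟩ := exists_three ht
  rcases card_invariant hG ht hs hc (H := zen t) inf_le_left (self_mem_zen ht)
    (fun x hx => zen_conj (Subgroup.mem_centralizer_singleton_iff.2 hc.symm.eq) hx) with h | h | h
  · exact Or.inl h
  · exact Or.inr h
  · refine absurd (fun a ha b hb => ?_) (not_abelian hG ht)
    have e : zen t = core t := Subgroup.eq_of_le_of_card_ge inf_le_left (by rw [h, card_core hG ht])
    exact zen_commute (e ▸ ha) hb

/-- A centre of order 8 is elementary abelian. -/
theorem zen_sq {t : G} (ht : Central t) (h8 : Nat.card (zen t) = 8) {a : G} (ha : a ∈ zen t) : a * a = 1 := by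
  classical
  obtain ⟨s, hs, hc⟩ := exists_three ht
  have hsC : s ∈ centralizer ({t} : Set G) := Subgroup.mem_centralizer_singleton_iff.2 hc.symm.eq
  have hcomm : ∀ a ∈ zen t, ∀ b ∈ zen t, Commute a b := fun a ha b hb => zen_commute ha hb.1
  let sq : zen t →* G := MonoidHom.mk' (fun a => (a : G) * a) (fun a b => by
    simp only [Subgroup.coe_mul]
    have h := (hcomm _ b.2 _ a.2).eq
    calc (a : G) * b * (a * b) = a * ((b : G) * a) * b := by group
      _ = a * ((a : G) * b) * b := by rw [h]
      _ = a * a * (b * b) := by group)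
  have hker : sq.ker.map (zen t).subtype ≤ zen t := Subgroup.map_subtype_le _
  have hcard := sq.ker.card_mul_index
  rw [Subgroup.index_ker, h8] at hcard
  have hinvK : ∀ x ∈ sq.ker.map (zen t).subtype, s * x * s⁻¹ ∈ sq.ker.map (zen t).subtype := by
    rintro _ ⟨⟨x, hx⟩, hxk, rfl⟩
    refine ⟨⟨s * x * s⁻¹, zen_conj hsC hx⟩, ?_, rfl⟩
    show s * x * s⁻¹ * (s * x * s⁻¹) = 1
    have hxx : x * x = 1 := hxk
    rw [show s * x * s⁻¹ * (s * x * s⁻¹) = s * (x * x) * s⁻¹ by group, hxx]
    group
  have htK : t ∈ sq.ker.map (zen t).subtype := ⟨⟨t, self_mem_zen ht⟩, ht.sq, rfl⟩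
  rcases card_invariant hG ht hs hc (hker.trans inf_le_left) htK hinvK with h | h | h
  · exfalso
    rw [Subgroup.card_map_of_injective (zen t).subtype_injective] at h
    rw [h] at hcard
    have hr : Nat.card sq.range = 4 := by omega
    have hrle : sq.range ≤ zen t := by rintro _ ⟨x, rfl⟩; exact mul_mem x.2 x.2
    have htr : t ∈ sq.range := by
      obtain ⟨⟨w, hw⟩, hwo⟩ := exists_prime_orderOf_dvd_card' (G := sq.range) 2 (by rw [hr]; norm_num)
      rw [Subgroup.orderOf_mk] at hwo
      have hwK : w ∈ sq.ker.map (zen t).subtype :=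
        ⟨⟨w, hrle hw⟩, show w * w = 1 by rw [← pow_two, ← hwo, pow_orderOf_eq_one], rfl⟩
      have e : zpowers t = sq.ker.map (zen t).subtype := Subgroup.eq_of_le_of_card_ge (Subgroup.zpowers_le.2 htK)
        (by rw [Subgroup.card_map_of_injective (zen t).subtype_injective, Nat.card_zpowers, ht.ord, h])
      rcases eq_or_of_mem_zpowers ht.ord (e.symm ▸ hwK) with rfl | rfl
      · simp at hwo
      · exact hw
    have := card_invariant hG ht hs hc (hrle.trans inf_le_left) htr (by
      rintro _ ⟨x, rfl⟩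
      exact ⟨⟨s * x * s⁻¹, zen_conj hsC x.2⟩,
        show s * x * s⁻¹ * (s * x * s⁻¹) = s * ((x : G) * x) * s⁻¹ by group⟩)
    omega
  · have e : sq.ker.map (zen t).subtype = zen t := Subgroup.eq_of_le_of_card_ge hker (by rw [h, h8])
    obtain ⟨x, hxk, hxa⟩ := e.symm ▸ ha
    rw [← hxa]
    exact hxk
  · have := Subgroup.card_le_of_le hker
    omega

/-- The centre of the core has order two. -/
theorem center_core {t : G} (ht : Central t) {a : G} (ha : a ∈ core t) (hac : ∀ b ∈ core t, Commute a b) :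
    a = 1 ∨ a = t := by
  classical
  obtain ⟨s, hs, hc⟩ := exists_three ht
  have hsC : s ∈ centralizer ({t} : Set G) := Subgroup.mem_centralizer_singleton_iff.2 hc.symm.eq
  have haZ : a ∈ zen t := ⟨ha, Subgroup.mem_centralizer_iff.2 fun b hb => (hac b hb).symm.eq⟩
  have htZ : zpowers t ≤ zen t := Subgroup.zpowers_le.2 (self_mem_zen ht)
  rcases card_zen hG ht with h | h8
  · have e : zpowers t = zen t := Subgroup.eq_of_le_of_card_ge htZ (by rw [Nat.card_zpowers, ht.ord, h])
    exact eq_or_of_mem_zpowers ht.ord (e ▸ haZ)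
  exfalso
  obtain ⟨u, huZ, hut⟩ := SetLike.not_le_iff_exists.1 (show ¬ zen t ≤ zpowers t from fun hle => by
    have := Subgroup.card_le_of_le hle
    rw [h8, Nat.card_zpowers, ht.ord] at this
    omega)
  have hu1 : u ≠ 1 := fun e => hut (e ▸ one_mem _)
  have hutne : u ≠ t := fun e => hut (e ▸ Subgroup.mem_zpowers t)
  have hu : Central u := central_of_commute hG ht
    (orderOf_eq_prime (by rw [pow_two, zen_sq hG ht h8 huZ]) hu1) (fun b hb => zen_commute huZ hb)
  have hQne : core u ≠ core t := fun e => not_abelian hG ht fun x hx y hy => by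
    rcases core_comm hG ht hx hy with h1 | h1
    · exact mul_inv_eq_iff_eq_mul.1 (mul_inv_eq_one.1 h1)
    rcases core_comm hG hu (e.symm ▸ hx) (e.symm ▸ hy) with h2 | h2
    · exact mul_inv_eq_iff_eq_mul.1 (mul_inv_eq_one.1 h2)
    · exact absurd (h2.symm.trans h1) hutne
  set Q := core t with hQdef
  set R := core u with hRdef
  set D := Q ⊓ R with hDdef
  have hQu : Q ≤ centralizer ({u} : Set G) := fun b hb =>
    Subgroup.mem_centralizer_singleton_iff.2 (zen_commute huZ hb).symm.eq
  have hD16 : Nat.card D = 16 := by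
    obtain ⟨-, ⟨e6⟩⟩ := central_shape hG hu
    let f : Q →* centralizer ({u} : Set G) ⧸ Cfsg.pCore 2 (centralizer ({u} : Set G)) :=
      (QuotientGroup.mk' _).comp (Subgroup.inclusion hQu)
    have hk : f.ker.map Q.subtype = D := by
      ext x
      constructor
      · rintro ⟨⟨y, hy⟩, hyk, rfl⟩
        exact ⟨hy, ⟨⟨y, hQu hy⟩, (QuotientGroup.eq_one_iff _).1 hyk, rfl⟩⟩
      · rintro ⟨hxQ, ⟨y, hy, hyx⟩⟩
        refine ⟨⟨x, hxQ⟩, ?_, rfl⟩
        have : Subgroup.inclusion hQu ⟨x, hxQ⟩ = y := Subtype.ext hyx.symm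
        exact (QuotientGroup.eq_one_iff _).2 (this ▸ hy)
    have hcm := f.ker.card_mul_index
    rw [Subgroup.index_ker, card_core hG ht, ← Subgroup.card_map_of_injective (K := f.ker) Q.subtype_injective,
      hk] at hcm
    have h6 : Nat.card f.range ∣ 6 := by
      have := Subgroup.card_subgroup_dvd_card f.range
      rwa [Nat.card_congr e6.toEquiv, Nat.card_perm, Nat.card_fin] at this
    have h32 : Nat.card f.range ∣ 32 := ⟨_, (hcm.symm.trans (mul_comm _ _))⟩
    have h2 : Nat.card f.range ∣ 2 := by simpa using Nat.dvd_gcd h6 h32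
    rcases (Nat.dvd_prime Nat.prime_two).1 h2 with h | h <;> rw [h] at hcm
    · exfalso
      have hle : Q ≤ R := inf_eq_left.1 (Subgroup.eq_of_le_of_card_ge (H := D) inf_le_left
        (by rw [card_core hG ht]; omega))
      exact hQne (Subgroup.eq_of_le_of_card_ge hle (by rw [card_core hG ht, card_core hG hu])).symm
    · omega
  have hDab : ∀ x ∈ D, ∀ y ∈ D, Commute x y := fun x hx y hy => by
    rcases core_comm hG ht hx.1 hy.1 with h1 | h1
    · exact mul_inv_eq_iff_eq_mul.1 (mul_inv_eq_one.1 h1)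
    rcases core_comm hG hu hx.2 hy.2 with h2 | h2
    · exact mul_inv_eq_iff_eq_mul.1 (mul_inv_eq_one.1 h2)
    · exact absurd (h2.symm.trans h1) hutne
  have hZD : zen t ≤ D := fun z hz => by_contra fun hzD => not_abelian hG ht
    (commute_of_outside (card_core hG ht) hD16 inf_le_left hDab hz.1 hzD fun x hx => zen_commute hz hx.1)
  -- the centre of the other core
  have hu8 : Nat.card (zen u) = 8 := by
    refine (card_zen hG hu).resolve_left fun h2 => ?_
    obtain ⟨x, hxR, hxD⟩ := SetLike.not_le_iff_exists.1 (show ¬ R ≤ D from fun hle => by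
      have := Subgroup.card_le_of_le hle
      rw [hD16, card_core hG hu] at this
      omega)
    have hge := card_le_two_mul (H := D) (x := x) (u := u) fun y hy => core_comm hG hu hxR hy.2
    have hle : D ⊓ centralizer ({x} : Set G) ≤ zen u := by
      intro y hy
      refine ⟨hy.1.2, Subgroup.mem_centralizer_iff.2 fun b hb => ?_⟩
      have hsup : D ⊔ zpowers x = R := by
        refine Subgroup.eq_of_le_of_card_ge (sup_le inf_le_right (Subgroup.zpowers_le.2 hxR)) ?_
        obtain ⟨k, hk⟩ := Subgroup.card_dvd_of_le (le_sup_left : D ≤ D ⊔ zpowers x)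
        have hne : Nat.card (D ⊔ zpowers x : Subgroup G) ≠ 16 := fun e => hxD (by
          rw [Subgroup.eq_of_le_of_card_ge (le_sup_left : D ≤ D ⊔ zpowers x) (by rw [e, hD16])]
          exact Subgroup.mem_sup_right (Subgroup.mem_zpowers x))
        have hpos : 0 < Nat.card (D ⊔ zpowers x : Subgroup G) := Nat.card_pos
        rw [hD16] at hk
        rw [card_core hG hu]
        rcases k with _ | _ | k <;> omega
      have hRy : R ≤ centralizer ({y} : Set G) := hsup ▸ sup_le
        (fun d hd => Subgroup.mem_centralizer_singleton_iff.2 (hDab d hd y hy.1).eq)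
        (Subgroup.zpowers_le.2 (Subgroup.mem_centralizer_singleton_iff.2
          (Subgroup.mem_centralizer_singleton_iff.1 hy.2).symm))
      exact Subgroup.mem_centralizer_singleton_iff.1 (hRy hb)
    have := Subgroup.card_le_of_le hle
    omega
  have hZuD : zen u ≤ D := fun z hz => by_contra fun hzD => not_abelian hG hu
    (commute_of_outside (card_core hG hu) hD16 inf_le_right hDab hz.1 hzD fun x hx => zen_commute hz hx.2)
  obtain ⟨v, hvU, hvZ⟩ := SetLike.not_le_iff_exists.1 (show ¬ zen u ≤ zen t from fun hle => by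
    -- otherwise the centraliser of the common centre gives equal cores
    have hzz : zen u = zen t := Subgroup.eq_of_le_of_card_ge hle (by rw [h8, hu8])
    set L := centralizer ({t} : Set G) with hL
    set K := centralizer (zen t : Set G) with hK
    have hKL : K ≤ L := fun k hk => Subgroup.mem_centralizer_singleton_iff.2
      ((Subgroup.mem_centralizer_iff.1 hk) t (self_mem_zen ht)).symm
    have hKn : (K.subgroupOf L).Normal := ⟨fun n hn g => Subgroup.mem_subgroupOf.2 (Subgroup.mem_centralizer_iff.2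
      fun z hz => by
        have h' := (Subgroup.mem_centralizer_iff.1 (Subgroup.mem_subgroupOf.1 hn)) _
          (show (g : G)⁻¹ * z * g ∈ zen t by simpa using zen_conj (inv_mem g.2) hz)
        show z * ((g : G) * n * (g : G)⁻¹) = (g : G) * n * (g : G)⁻¹ * z
        calc z * ((g : G) * n * (g : G)⁻¹) = g * ((g : G)⁻¹ * z * g * n) * (g : G)⁻¹ := by group
          _ = g * (n * ((g : G)⁻¹ * z * g)) * (g : G)⁻¹ := by rw [h']
          _ = _ := by group)⟩
    have hKp : IsPGroup 2 (K.subgroupOf L) := by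
      have hd : Nat.card (K.subgroupOf L) ∣ 3 * 2 ^ 6 := by
        have := Subgroup.card_subgroup_dvd_card (K.subgroupOf L)
        rw [ht.card] at this
        exact this
      have h3 : ¬ 3 ∣ Nat.card (K.subgroupOf L) := by
        intro h
        obtain ⟨⟨⟨x, hxL⟩, hxK⟩, hxo⟩ := exists_prime_orderOf_dvd_card' (G := K.subgroupOf L) 3 h
        rw [Subgroup.orderOf_mk, Subgroup.orderOf_mk] at hxo
        have hxK' : x ∈ K := Subgroup.mem_subgroupOf.1 hxK
        have hsub : zen t ≤ zpowers t := fun z hz => by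
          rcases fixed hG ht hxo (Subgroup.mem_centralizer_singleton_iff.1 hxL).symm hz.1
            ((Subgroup.mem_centralizer_iff.1 hxK') z hz).symm with h | h <;> rw [h]
          exacts [one_mem _, Subgroup.mem_zpowers t]
        exact hut (hsub huZ)
      obtain ⟨j, -, hj⟩ := (Nat.dvd_prime_pow Nat.prime_two).1
        (((Nat.prime_three.coprime_iff_not_dvd).2 h3).symm.dvd_of_dvd_mul_left hd)
      exact IsPGroup.of_card hj
    have hsub : R ≤ Q := fun r hr => by
      have hrK : r ∈ K := Subgroup.mem_centralizer_iff.2 fun z hz => (zen_commute (hzz.symm ▸ hz) hr).eq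
      exact ⟨⟨r, hKL hrK⟩, Core.le_pCore' hKn hKp (Subgroup.mem_subgroupOf.2 hrK), rfl⟩
    exact hQne (Subgroup.eq_of_le_of_card_ge hsub (by rw [card_core hG ht, card_core hG hu])))
  have hvD : v ∈ D := hZuD hvU
  have hv2 : v * v = 1 := zen_sq hG hu hu8 hvU
  -- the abelian subgroup is the centre and one more element
  have hDgen : zen t ⊔ zpowers v = D := by
    refine Subgroup.eq_of_le_of_card_ge (sup_le hZD (Subgroup.zpowers_le.2 hvD)) ?_
    obtain ⟨k, hk⟩ := Subgroup.card_dvd_of_le (le_sup_left : zen t ≤ zen t ⊔ zpowers v)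
    have hne : Nat.card (zen t ⊔ zpowers v : Subgroup G) ≠ 8 := fun e => hvZ (by
      rw [Subgroup.eq_of_le_of_card_ge (le_sup_left : zen t ≤ zen t ⊔ zpowers v) (by rw [e, h8])]
      exact Subgroup.mem_sup_right (Subgroup.mem_zpowers v))
    have hpos : 0 < Nat.card (zen t ⊔ zpowers v : Subgroup G) := Nat.card_pos
    rw [h8] at hk
    rw [hD16]
    rcases k with _ | _ | k <;> omega
  set b := s * v * s⁻¹ with hb
  set c := s * b * s⁻¹ with hcdef
  have hbQ : b ∈ Q := core_conj hsC hvD.1
  have hcQ : c ∈ Q := core_conj hsC hbQ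
  have hbD : b ∉ D := fun hbD => by
    have hinv : D ≤ D.comap (MulAut.conj s).toMonoidHom := by
      conv_lhs => rw [← hDgen]
      exact sup_le (fun z hz => hZD (zen_conj hsC hz)) (Subgroup.zpowers_le.2 hbD)
    rcases card_invariant hG ht hs hc (H := D) inf_le_left (hZD (self_mem_zen ht)) (fun x hx => hinv hx) with h | h | h <;>
      omega
  have hback : s * c * s⁻¹ = v := conj_pow_three hs v
  have hcD : c ∉ D := fun hcD => by
    by_cases hcZ : c ∈ zen t
    · exact hvZ (hback ▸ zen_conj hsC hcZ)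
    · have hvc : v * c ∈ zen t := (mem_or_mul_mem hZD (by rw [hD16, h8]) hvD hcD).2 (iff_of_false hvZ hcZ)
      have h := hZD (zen_conj hsC hvc)
      rw [show s * (v * c) * s⁻¹ = (s * v * s⁻¹) * (s * c * s⁻¹) by group, hback, ← hb] at h
      exact hbD ((mul_mem_cancel_right hvD).1 h)
  have hbc : b * c ∈ D := (mem_or_mul_mem inf_le_left (by rw [hD16, card_core hG ht]) hbQ hcQ).2
    (iff_of_false hbD hcD)
  have hbcZ : b * c ∉ zen t := fun h => by
    have h' := zen_conj hsC h
    rw [show s * (b * c) * s⁻¹ = c * (s * c * s⁻¹) by rw [hcdef]; group, hback] at h'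
    exact hcD ((mul_mem_cancel_right hvD).1 (hZD h'))
  have hz : v * (b * c) ∈ zen t := (mem_or_mul_mem hZD (by rw [hD16, h8]) hvD hbc).2 (iff_of_false hvZ hbcZ)
  set z := v * (b * c) with hzdef
  have hb2 : b * b = 1 := by
    rw [hb, show s * v * s⁻¹ * (s * v * s⁻¹) = s * (v * v) * s⁻¹ by group, hv2]
    group
  have hc2 : c * c = 1 := by
    rw [hcdef, show s * b * s⁻¹ * (s * b * s⁻¹) = s * (b * b) * s⁻¹ by group, hb2]
    group
  have hvb : Commute v b := by
    have ec : c = b * v * z := by
      rw [hzdef, show b * v * (v * (b * c)) = b * (v * v) * b * c by group, hv2, mul_one, hb2, one_mul]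
    have hzbv : Commute z (b * v) := zen_commute hz (mul_mem hbQ hvD.1)
    have e : (b * v) * (b * v) = 1 := by
      have h := hc2
      rw [ec, mul_assoc, ← mul_assoc z, hzbv.eq, mul_assoc (b * v) z, zen_sq hG ht h8 hz, mul_one] at h
      exact h
    have hinv : (b * v)⁻¹ = b * v := inv_eq_of_mul_eq_one_right e
    rw [mul_inv_rev, inv_eq_of_mul_eq_one_right hv2, inv_eq_of_mul_eq_one_right hb2] at hinv
    exact hinv
  have hbDc : ∀ x ∈ D, Commute b x := by
    intro x hx
    have hle : D ≤ centralizer ({b} : Set G) := hDgen ▸ sup_le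
      (fun z hz => Subgroup.mem_centralizer_singleton_iff.2 (zen_commute hz hbQ).eq)
      (Subgroup.zpowers_le.2 (Subgroup.mem_centralizer_singleton_iff.2 hvb.eq))
    exact (Subgroup.mem_centralizer_singleton_iff.1 (hle hx)).symm
  exact not_abelian hG ht (commute_of_outside (card_core hG ht) hD16 inf_le_left hDab hbQ hbD hbDc)

theorem core_sq {t : G} (ht : Central t) {a : G} (ha : a ∈ core t) : a * a = 1 ∨ a * a = t := by
  refine center_core hG ht (mul_mem ha ha) fun b hb => ?_
  have hka : ∀ k : G, k = 1 ∨ k = t → Commute a k ∧ k * k = 1 := by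
    rintro k (rfl | rfl)
    exacts [⟨Commute.one_right a, one_mul 1⟩, ⟨(core_commute ha).symm, ht.sq⟩]
  obtain ⟨h1, h2⟩ := hka _ (core_comm hG ht ha hb)
  set k := a * b * a⁻¹ * b⁻¹
  have e : a * b * a⁻¹ = k * b := by simp only [k]; group
  have : a * a * b * (a * a)⁻¹ = b := by
    calc a * a * b * (a * a)⁻¹ = a * (a * b * a⁻¹) * a⁻¹ := by group
      _ = (a * k) * b * a⁻¹ := by rw [e]; group
      _ = k * (a * b * a⁻¹) := by rw [h1.eq]; group
      _ = (k * k) * b := by rw [e]; group
      _ = b := by rw [h2, one_mul]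
  exact mul_inv_eq_iff_eq_mul.1 this

/-- The core is extraspecial. -/
theorem core_extraspecial {t : G} (ht : Central t) : Cfsg.IsExtraspecial 2 (core t) := by
  let z : core t := ⟨t, mem_core_self ht⟩
  refine JankoFour.isExtraspecial_two (n := 5) (z := z) (by rw [card_core hG ht]; norm_num)
    (by rw [Subgroup.orderOf_mk, ht.ord])
    (fun a b => (core_comm hG ht a.2 b.2).imp (fun h => Subtype.ext h) (fun h => Subtype.ext h))
    (fun a => (core_sq hG ht a.2).imp (fun h => Subtype.ext h) (fun h => Subtype.ext h))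
    (fun a ha => (center_core hG ht a.2 fun b hb => congrArg Subtype.val (ha ⟨b, hb⟩).eq).imp
      (fun h => Subtype.ext h) (fun h => Subtype.ext h))
    (fun b => Subtype.ext (core_commute b.2).eq) ?_
  by_contra hno
  push Not at hno
  refine not_abelian hG ht fun a ha b hb => ?_
  rcases core_comm hG ht ha hb with h | h
  · exact mul_inv_eq_iff_eq_mul.1 (mul_inv_eq_one.1 h)
  · exact absurd (Subtype.ext h) (hno ⟨a, ha⟩ ⟨b, hb⟩)

/-- Only the centre centralises the core in the centraliser. -/
theorem eq_or_of_centralizes_core {t g : G} (ht : Central t) (hg : Commute g t)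
    (hc : ∀ b ∈ core t, Commute g b) : g = 1 ∨ g = t := by
  classical
  set L := centralizer ({t} : Set G) with hL
  set K := centralizer (core t : Set G) with hK
  have hKn : (K.subgroupOf L).Normal := ⟨fun n hn x => Subgroup.mem_subgroupOf.2 (Subgroup.mem_centralizer_iff.2
    fun z hz => by
      have h' := (Subgroup.mem_centralizer_iff.1 (Subgroup.mem_subgroupOf.1 hn)) _
        (show (x : G)⁻¹ * z * x ∈ core t by simpa using core_conj (inv_mem x.2) hz)
      show z * ((x : G) * n * (x : G)⁻¹) = (x : G) * n * (x : G)⁻¹ * z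
      calc z * ((x : G) * n * (x : G)⁻¹) = x * ((x : G)⁻¹ * z * x * n) * (x : G)⁻¹ := by group
        _ = x * (n * ((x : G)⁻¹ * z * x)) * (x : G)⁻¹ := by rw [h']
        _ = _ := by group)⟩
  have hKp : IsPGroup 2 (K.subgroupOf L) := by
    have hd : Nat.card (K.subgroupOf L) ∣ 3 * 2 ^ 6 := by
      have := Subgroup.card_subgroup_dvd_card (K.subgroupOf L)
      rw [ht.card] at this
      exact this
    have h3 : ¬ 3 ∣ Nat.card (K.subgroupOf L) := by
      intro h
      obtain ⟨⟨⟨x, hxL⟩, hxK⟩, hxo⟩ := exists_prime_orderOf_dvd_card' (G := K.subgroupOf L) 3 h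
      rw [Subgroup.orderOf_mk, Subgroup.orderOf_mk] at hxo
      have hxK' : x ∈ K := Subgroup.mem_subgroupOf.1 hxK
      have hsub : core t ≤ zpowers t := fun z hz => by
        rcases fixed hG ht hxo (Subgroup.mem_centralizer_singleton_iff.1 hxL).symm hz
          ((Subgroup.mem_centralizer_iff.1 hxK') z hz).symm with h | h <;> rw [h]
        exacts [one_mem _, Subgroup.mem_zpowers t]
      have := Subgroup.card_le_of_le hsub
      rw [card_core hG ht, Nat.card_zpowers, ht.ord] at this
      omega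
    obtain ⟨j, -, hj⟩ := (Nat.dvd_prime_pow Nat.prime_two).1
      (((Nat.prime_three.coprime_iff_not_dvd).2 h3).symm.dvd_of_dvd_mul_left hd)
    exact IsPGroup.of_card hj
  have hgQ : g ∈ core t :=
    ⟨⟨g, Subgroup.mem_centralizer_singleton_iff.2 hg.eq⟩, Core.le_pCore' hKn hKp
      (Subgroup.mem_subgroupOf.2 (Subgroup.mem_centralizer_iff.2 fun b hb => (hc b hb).symm.eq)), rfl⟩
  exact center_core hG ht hgQ hc

/-- The 2-central involutions are conjugate. -/
theorem isConj_central {t u : G} (ht : Central t) (hu : Central u) : ∃ g : G, g * u * g⁻¹ = t := by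
  classical
  have mk : ∀ {x : G}, Central x → ∃ P : Sylow 2 G, (P : Subgroup G) ≤ centralizer ({x} : Set G) ∧
      core x ≤ (P : Subgroup G) := by
    intro x hx
    obtain ⟨P₀⟩ : Nonempty (Sylow 2 (centralizer ({x} : Set G))) := inferInstance
    have h64 : Nat.card ((P₀ : Subgroup (centralizer ({x} : Set G))).map (centralizer ({x} : Set G)).subtype) =
        2 ^ (Nat.card G).factorization 2 := by
      rw [Subgroup.card_map_of_injective (centralizer ({x} : Set G)).subtype_injective,
        Small.card_sylow 6 3 (by rw [hx.card]; norm_num) (by norm_num) P₀, hG.2]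
      congr 1
      rw [show (95040 : ℕ) = 2 ^ 6 * 1485 by norm_num, Nat.factorization_mul (by norm_num) (by norm_num),
        Finsupp.add_apply, Nat.factorization_pow, Finsupp.smul_apply, Nat.Prime.factorization_self Nat.prime_two,
        Nat.factorization_eq_zero_of_not_dvd (by norm_num)]
      rfl
    exact ⟨Sylow.ofCard _ h64, Subgroup.map_subtype_le _, Subgroup.map_mono (Core.pCore_le_sylow P₀)⟩
  obtain ⟨P, hP, hPQ⟩ := mk ht
  obtain ⟨R, hR, -⟩ := mk hu
  obtain ⟨g, hg⟩ := MulAction.exists_smul_eq G R P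
  refine ⟨g, ?_⟩
  have hcen : ∀ p ∈ (P : Subgroup G), Commute (g * u * g⁻¹) p := by
    intro p hp
    rw [← hg, Sylow.coe_subgroup_smul] at hp
    obtain ⟨r, hr, rfl⟩ := hp
    have h := (Subgroup.mem_centralizer_singleton_iff.1 (hR hr)).symm
    show g * u * g⁻¹ * (g * r * g⁻¹) = g * r * g⁻¹ * (g * u * g⁻¹)
    calc g * u * g⁻¹ * (g * r * g⁻¹) = g * (u * r) * g⁻¹ := by group
      _ = g * (r * u) * g⁻¹ := by rw [h]
      _ = _ := by group
  refine (eq_or_of_centralizes_core hG ht (hcen t (hPQ (mem_core_self ht))) fun b hb => hcen b (hPQ hb)).resolve_left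
    fun h => hu.ne_one ?_
  exact conj_eq_one_iff.1 h

/-- Another conjugate of the involution lies in the core. -/
theorem not_weakly_closed {t : G} (ht : Central t) : ∃ g : G, g * t * g⁻¹ ∈ core t ∧ g * t * g⁻¹ ≠ t := by
  classical
  by_contra hno
  push Not at hno
  obtain ⟨E, ⟨M⟩⟩ := nonempty_twelve hG
  obtain ⟨ε, hε, hval⟩ := common_sign hG M
  have hinvol : ∀ x ∈ core t, x * x = 1 → x ≠ 1 → x ≠ t → (E.S.θ : G → ℂ) x = ((4 * ε : ℤ) : ℂ) := by
    intro x hx h2 h1 hxt
    have hxo : orderOf x = 2 := orderOf_eq_prime (by rw [pow_two, h2]) h1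
    refine hval x hxo fun h192 => ?_
    obtain ⟨g, hg⟩ := isConj_central hG ⟨hxo, h192⟩ ht
    exact hxt (hg ▸ hno g (hg.symm ▸ hx))
  have hfour : ∀ x ∈ core t, x * x ≠ 1 → (E.S.θ : G → ℂ) x = 0 := by
    intro x hx h2
    have hxt : x * x = t := (core_sq hG ht hx).resolve_left h2
    obtain ⟨k, -, hk⟩ := two_power hG ht hx
    refine theta_zero hG M ht hk h2 (fun c hc => Subgroup.mem_centralizer_singleton_iff.2 ?_) ?_
    · have hc' : Commute c x := Subgroup.mem_centralizer_singleton_iff.1 hc
      rw [← hxt]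
      exact (hc'.mul_right hc').eq
    · have hge := card_le_two_mul (H := core t) (x := x) (u := t) fun b hb => core_comm hG ht hx hb
      have hd := Subgroup.card_dvd_of_le (inf_le_left : core t ⊓ centralizer ({x} : Set G) ≤ core t)
      rw [card_core hG ht] at hge hd
      obtain ⟨j, hj, hjc⟩ := (Nat.dvd_prime_pow Nat.prime_two).1 (show _ ∣ 2 ^ 5 by norm_num [-Nat.card_eq_fintype_card]; exact hd)
      refine dvd_trans ?_ (Subgroup.card_dvd_of_le (inf_le_right : core t ⊓ centralizer ({x} : Set G) ≤ _))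
      rw [hjc] at hge ⊢
      interval_cases j <;> simp_all [-Nat.card_eq_fintype_card]
  set z : core t := ⟨t, mem_core_self ht⟩ with hz
  have hsq := sq_count (T := core t) (z := z) (by rw [hz, Subgroup.orderOf_mk, ht.ord])
    (fun b => Subtype.ext (core_commute b.2).eq)
    (fun a b => (core_comm hG ht a.2 b.2).imp (fun h => Subtype.ext h) (fun h => Subtype.ext h))
    (fun a => (core_sq hG ht a.2).imp (fun h => Subtype.ext h) (fun h => Subtype.ext h))
    (fun a ha => (center_core hG ht a.2 fun b hb => congrArg Subtype.val (ha ⟨b, hb⟩).eq).imp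
      (fun h => Subtype.ext h) (fun h => Subtype.ext h))
  have hz1 : z ≠ 1 := fun e => ht.ne_one (congrArg Subtype.val e)
  have hzz : z * z = 1 := Subtype.ext ht.sq
  set A := Finset.univ.filter (fun a : core t => a * a = 1) with hA
  set B := (A.erase 1).erase z with hB
  have hAB : A.card = B.card + 2 := by
    have h1 : (1 : core t) ∈ A := by simp [hA]
    have h2 : z ∈ A.erase 1 := Finset.mem_erase.2 ⟨hz1, by simp [hA, hzz]⟩
    rw [hB, ← Finset.card_erase_add_one h1, ← Finset.card_erase_add_one h2]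
  have hS : (∑ a : core t, if a * a = 1 then (1 : ℤ) else -1) = 2 * (A.card : ℤ) - 32 := by
    have e : ∀ a : core t, (if a * a = 1 then (1 : ℤ) else -1) = 2 * (if a * a = 1 then (1 : ℤ) else 0) - 1 :=
      fun a => by split_ifs <;> norm_num
    rw [Finset.sum_congr rfl fun a _ => e a, Finset.sum_sub_distrib, ← Finset.mul_sum, Finset.sum_boole,
      Finset.sum_const, Finset.card_univ, ← Nat.card_eq_fintype_card, card_core hG ht, ← hA]
    norm_num
  have hsq' : (2 * (A.card : ℤ) - 32) ^ 2 = 64 := by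
    rw [← hS]
    refine Eq.trans ?_ (hsq.trans (by rw [← Nat.card_eq_fintype_card, card_core hG ht]; norm_num))
    congr!
  obtain ⟨n, hn⟩ := MEleven.exists_nat_sum E.S.θ (core t)
  have hval' : ∀ h : core t, (E.S.θ : G → ℂ) h =
      (if h = 1 then (16 : ℂ) else 0) + if h ∈ B then ((4 * ε : ℤ) : ℂ) else 0 := by
    intro h
    have hmem : h ∈ B ↔ h ≠ z ∧ h ≠ 1 ∧ h * h = 1 := by simp [hB, hA]
    by_cases h1 : h = 1
    · rw [if_pos h1, if_neg (fun hh => (hmem.1 hh).2.1 h1), add_zero, h1, OneMemClass.coe_one, theta_one hG M]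
    rw [if_neg h1, zero_add]
    by_cases hzh : h = z
    · rw [if_neg (fun hh => (hmem.1 hh).1 hzh), hzh]
      simpa using (central_column hG M ht).vθ
    by_cases h2 : h * h = 1
    · rw [if_pos (hmem.2 ⟨hzh, h1, h2⟩)]
      exact hinvol h h.2 (congrArg Subtype.val h2) (fun e => h1 (Subtype.ext e)) (fun e => hzh (Subtype.ext e))
    · rw [if_neg (fun hh => h2 (hmem.1 hh).2.2)]
      exact hfour h h.2 fun e => h2 (Subtype.ext e)
  rw [Finset.sum_congr rfl fun h _ => hval' h, Finset.sum_add_distrib, Finset.sum_ite_eq', Finset.sum_ite_mem,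
    Finset.univ_inter, Finset.sum_const, if_pos (Finset.mem_univ _), card_core hG ht, nsmul_eq_mul] at hn
  have hn' : (16 : ℤ) + (B.card : ℤ) * (4 * ε) = 32 * (n : ℤ) := by exact_mod_cast hn
  have hA32 : A.card ≤ 32 := by
    rw [← card_core hG ht, Nat.card_eq_fintype_card]
    exact Finset.card_le_univ A
  have h64 : 2 * (A.card : ℤ) - 32 = 8 ∨ 2 * (A.card : ℤ) - 32 = -8 :=
    sq_eq_sq_iff_eq_or_eq_neg.1 (by rw [hsq']; norm_num)
  rcases hε with rfl | rfl <;> rcases h64 with h | h <;> omega

end Cfsg.Lib.MTwelveOrder
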