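import Cfsg.Agent.Lib.MTwelveOrder.Twelve
import Cfsg.Agent.Lib.Core.Cores

/-!
The centraliser of a 2-central involution: order 192, elements of order 3 centralised by a group of
order 6, and quotient by the 2-core isomorphic to the symmetric group of degree 3.
-/

set_option autoImplicit false
set_option linter.style.haveILetI false
set_option linter.unusedSectionVars false
set_option maxRecDepth 100000

namespace Cfsg.Lib.MTwelveOrder

open Cfsg Cfsg.Lib.Char Cfsg.Lib.Block
open Subgroup (centralizer)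

universe u

local instance fact_three_structure : Fact (Nat.Prime 3) := ⟨by norm_num⟩
local instance fact_two_structure : Fact (Nat.Prime 2) := ⟨by norm_num⟩
local instance fact_eleven_structure : Fact (Nat.Prime 11) := ⟨by norm_num⟩

variable {G : Type u} [Group G] [Fintype G]

/-- A 2-central involution: an involution with centraliser of order 192. -/
structure Central (t : G) : Prop where
  ord : orderOf t = 2
  card : Nat.card (centralizer ({t} : Set G)) = 192

/-- The 2-core of the centraliser, in the group. -/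
def core (t : G) : Subgroup G := (Cfsg.pCore 2 (centralizer ({t} : Set G))).map (centralizer ({t} : Set G)).subtype

theorem Central.ne_one {t : G} (ht : Central t) : t ≠ 1 := fun e => by
  have := ht.ord
  rw [e, orderOf_one] at this
  norm_num at this

theorem Central.sq {t : G} (ht : Central t) : t * t = 1 := by
  rw [← pow_two, ← ht.ord, pow_orderOf_eq_one]

theorem Central.conj {t : G} (ht : Central t) (g : G) : Central (g * t * g⁻¹) :=
  ⟨by rw [← MulAut.conj_apply, MulEquiv.orderOf_eq, ht.ord],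
    by rw [MEleven.card_centralizer_conj, ht.card]⟩

variable (hG : IsM12 G)

include hG

theorem exists_central : ∃ t : G, Central t := by
  obtain ⟨E, ⟨M⟩⟩ := nonempty_twelve hG
  obtain ⟨t, ht, hC⟩ := exists_central_involution hG
  obtain ⟨V, -, h⟩ := involution_cases hG M ht
  refine ⟨t, ht, ?_⟩
  simp only [List.mem_cons, List.not_mem_nil, or_false, Prod.mk.injEq] at h
  rcases h with ⟨h, -⟩ | ⟨h, -⟩ | ⟨h, -⟩ | ⟨h, -⟩ | ⟨h, -⟩
  · exact h
  all_goals
    rw [h] at hC
    simp [centralOrders] at hC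

variable {E : Eleven G} (M : Members E twelveT)

theorem central_column {t : G} (ht : Central t) : Column M t (-8, 6, -3, 0, 0) := by
  obtain ⟨V, hV, h⟩ := involution_cases hG M ht.ord
  rw [ht.card] at h
  simp only [List.mem_cons, List.not_mem_nil, or_false, Prod.mk.injEq] at h
  rcases h with ⟨-, rfl⟩ | ⟨h, -⟩ | ⟨h, -⟩ | ⟨h, -⟩ | ⟨h, -⟩
  · exact hV
  all_goals norm_num at h

/-- The other involutions have one value of the exceptional character, 4 or -4, up to a common sign. -/
theorem other_value {u : G} (hu : orderOf u = 2) (hne : Nat.card (centralizer ({u} : Set G)) ≠ 192) :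
    (Nat.card (centralizer ({u} : Set G)) = 120 ∨ Nat.card (centralizer ({u} : Set G)) = 240) ∧
      ∃ ε : ℤ, (ε = 1 ∨ ε = -1) ∧ Column M u (0, 6, 5, 4 * ε, 4 * ε) := by
  obtain ⟨V, hV, h⟩ := involution_cases hG M hu
  simp only [List.mem_cons, List.not_mem_nil, or_false, Prod.mk.injEq] at h
  rcases h with ⟨h, -⟩ | ⟨h, rfl⟩ | ⟨h, rfl⟩ | ⟨h, rfl⟩ | ⟨h, rfl⟩
  · exact absurd h hne
  · exact ⟨Or.inl h, 1, Or.inl rfl, by simpa using hV⟩
  · exact ⟨Or.inr h, 1, Or.inl rfl, by simpa using hV⟩
  · exact ⟨Or.inl h, -1, Or.inr rfl, by simpa using hV⟩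
  · exact ⟨Or.inr h, -1, Or.inr rfl, by simpa using hV⟩

include M in
/-- The exceptional character takes one common value at the involutions that are not 2-central. -/
theorem common_sign : ∃ ε : ℤ, (ε = 1 ∨ ε = -1) ∧ ∀ u : G, orderOf u = 2 →
    Nat.card (centralizer ({u} : Set G)) ≠ 192 → (E.S.θ : G → ℂ) u = ((4 * ε : ℤ) : ℂ) := by
  obtain ⟨z, hz, hzne⟩ := exists_five_involution hG M
  obtain ⟨-, ε, hε, hcol⟩ := other_value hG M hz hzne
  refine ⟨ε, hε, fun u hu hune => ?_⟩
  obtain ⟨-, δ, hδ, hcol'⟩ := other_value hG M hu hune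
  have h0 := quad_involutions hG hcol hcol' hz hu
  have : δ = ε := by
    rcases hε with rfl | rfl <;> rcases hδ with rfl | rfl <;> first | rfl | norm_num [cross, twelveT, sgn] at h0
  exact this ▸ hcol'.vθ

/-- An element of order 3 commuting with an involution. -/
theorem three_commuting {u s : G} (hu : orderOf u = 2) (hs : orderOf s = 3) (hc : Commute u s) :
    ∃ V, Column M s V ∧ (Nat.card (centralizer ({s} : Set G)), V) ∈
      ([(36, 0, 0, 3, -3, 1), (54, 3, 0, 0, 0, -2)] : List (ℕ × Tup)) := by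
  obtain ⟨t, ht⟩ := exists_central hG
  obtain ⟨V, hV, hcol⟩ := three_column hG M hs (unique_twelve hG M)
  have hd := centralizer_dvd hG (fun e => by rw [e, orderOf_one] at hs; norm_num at hs)
    (show ¬ 11 ∣ orderOf s by rw [hs]; norm_num)
  have hmem : Nat.card (centralizer ({s} : Set G)) ∈ threeOrders := by
    simp only [threeOrders, List.mem_filter, List.mem_range, decide_eq_true_eq]
    exact ⟨Nat.lt_succ_of_le (Nat.le_of_dvd (by norm_num) hd),
      Nat.Coprime.mul_dvd_of_dvd_of_dvd (by norm_num : Nat.Coprime 2 9)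
        (hu ▸ Subgroup.orderOf_dvd_natCard _ (Subgroup.mem_centralizer_singleton_iff.2 hc.eq))
        (nine_dvd_centralizer (by rw [hG.2]; norm_num) hs), hd⟩
  have h1 := count_dvd hG hV hV (show ¬ 11 ∣ orderOf s by rw [hs]; norm_num) (by rw [hs]; norm_num)
  have h2 := count_dvd hG hV (central_column hG M ht) (show ¬ 11 ∣ orderOf s by rw [hs]; norm_num)
    (show ¬ 11 ∣ orderOf t by rw [ht.ord]; norm_num)
  rw [← quad_eq] at h1
  rw [ht.card] at h2
  refine ⟨V, hV, twelve_commuting_check _ hmem V (mem_cols (Nat.le_of_dvd (by norm_num) hd)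
    (hcol (five := false) (by simp))) h1.1 h1.2 ?_⟩
  rw [mul_comm 192]
  exact h2.2

omit hG in
theorem pReg_of_commute {p : ℕ} [Fact p.Prime] {x y : G} (hc : Commute x y) {k : ℕ} (hx : orderOf x = p ^ k)
    (hy : ¬ p ∣ orderOf y) : pReg p (x * y) = y := by
  have h1 : x = pPt p (x * y) := eq_pPt rfl hc hx hy
  have h2 := pPt_mul_pReg (p := p) (x * y)
  rw [← h1] at h2
  exact mul_left_cancel h2

/-- An element of order 3 commuting with a 2-central involution has centraliser of order 54. -/
theorem card_centralizer_three {t s : G} (ht : Central t) (hs : orderOf s = 3) (hc : Commute t s) :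
    Nat.card (centralizer ({s} : Set G)) = 54 := by
  classical
  obtain ⟨E, ⟨M⟩⟩ := nonempty_twelve hG
  obtain ⟨V, hV, h⟩ := three_commuting hG M ht.ord hs hc
  simp only [List.mem_cons, List.not_mem_nil, or_false, Prod.mk.injEq] at h
  rcases h with ⟨h36, rfl⟩ | ⟨h, -⟩
  swap
  · exact h
  exfalso
  obtain ⟨da, db, dc, dd, dθ⟩ := degrees_twelve hG M
  have hcop : (orderOf t).Coprime (orderOf s) := by rw [ht.ord, hs]; norm_num
  have hord : orderOf (t * s) = 6 := by rw [hc.orderOf_mul_eq_mul_orderOf_of_coprime hcop, ht.ord, hs]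
  have hreg : ¬ 11 ∣ orderOf (t * s) := by rw [hord]; norm_num
  have hR2 : pReg 2 (t * s) = s := pReg_of_commute hc (k := 1) (by rw [ht.ord, pow_one]) (by rw [hs]; norm_num)
  have hR3 : pReg 3 (t * s) = t := by
    rw [hc.eq]
    exact pReg_of_commute hc.symm (k := 1) (by rw [hs, pow_one]) (by rw [ht.ord]; norm_num)
  obtain ⟨M2, hM2⟩ := exists_isPModular (show Nat.Prime 2 by norm_num)
  obtain ⟨M3, hM3⟩ := exists_isPModular (show Nat.Prime 3 by norm_num)
  have key : ∀ χ ∈ E.S.Z, χ ≠ trivChar G → ∀ a b : ℤ, (χ : G → ℂ) s = a → (χ : G → ℂ) t = b →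
      ∃ w : ℤ, (χ : G → ℂ) (t * s) = w ∧ (2 : ℤ) ∣ w - a ∧ (3 : ℤ) ∣ w - b := by
    intro χ hχ hne a b ha hb
    obtain ⟨w, hw⟩ := rational_unique hG E hχ (unique_twelve hG M χ hχ hne) hreg
    refine ⟨w, hw, ?_, ?_⟩
    · have h := charVal_sub_pReg_mem (p := 2) hM2 χ.2.isCharacter (t * s)
      rw [hR2, hw, ha] at h
      refine int_dvd_of_memLocalIdeal hM2 ?_
      push_cast
      exact h
    · have h := charVal_sub_pReg_mem (p := 3) hM3 χ.2.isCharacter (t * s)
      rw [hR3, hw, hb] at h
      refine int_dvd_of_memLocalIdeal hM3 ?_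
      push_cast
      exact h
  have hX : ∀ {χ}, χ ∈ E.S.X → χ ∈ E.S.Z := fun h => E.S.mem_Z.2 (Or.inr h)
  have ht' := central_column hG M ht
  obtain ⟨wa, hwa, a2, a3⟩ := key _ (hX M.ha) M.ne_a _ _ hV.va ht'.va
  obtain ⟨wc, hwc, c2, c3⟩ := key _ (hX M.hc) M.ne_c _ _ hV.vc ht'.vc
  obtain ⟨wd, hwd, d2, d3⟩ := key _ (hX M.hd) M.ne_d _ _ hV.vd ht'.vd
  obtain ⟨wθ, hwθ, θ2, θ3⟩ := key _ (E.S.mem_Z.2 (Or.inl rfl)) M.ne_θ _ _ hV.vθ ht'.vθ
  dsimp only at a2 c2 d2 θ2 a3 c3 d3 θ3
  have hY : ∀ θ' ∈ E.S.Y, (θ' : G → ℂ) (t * s) = (wθ : ℂ) := fun θ' h' => by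
    rw [E.S.agree θ' h' _ hreg, hwθ]
  have h0 := sum_sq_le (E.S.X ∪ E.S.Y) (t * s)
  have hle : Nat.card (centralizer ({t * s} : Set G)) ≤ 36 := by
    rw [← h36]
    refine Nat.le_of_dvd Nat.card_pos (Subgroup.card_dvd_of_le fun g hg => ?_)
    rw [Subgroup.mem_centralizer_singleton_iff] at hg ⊢
    have e : (t * s) ^ 4 = s := by
      rw [hc.mul_pow, show (4 : ℕ) = 2 * 2 from rfl, pow_mul t, pow_two t, ht.sq, one_pow, one_mul,
        show (2 * 2 : ℕ) = 3 + 1 from rfl, pow_succ, ← hs, pow_orderOf_eq_one, one_mul]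
    rw [← e]
    exact (Commute.pow_right (hg : Commute g (t * s)) 4).eq
  have hle' : (Nat.card (centralizer ({t * s} : Set G)) : ℝ) ≤ 36 := by exact_mod_cast hle
  rw [Finset.sum_union E.S.disj, M.sumX, hwa, hwc, hwd,
    Finset.sum_congr (rfl : E.S.Y = E.S.Y) (g := fun _ => ‖((wθ : ℤ) : ℂ)‖ ^ 2) (fun θ' h' => by rw [hY θ' h']),
    Finset.sum_const, E.S.card_Y, show ((trivChar G : IrrCharacter G) : G → ℂ) (t * s) = 1 from rfl] at h0
  simp only [norm_one, Complex.norm_intCast, sq_abs] at h0
  norm_num [-Nat.card_eq_fintype_card] at h0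
  have hb : 0 ≤ ‖(M.b : G → ℂ) (t * s)‖ ^ 2 := sq_nonneg _
  have e1 : (3 : ℤ) ≤ wc ∨ wc ≤ -3 := by omega
  have e2 : (3 : ℤ) ≤ wd ∨ wd ≤ -3 := by omega
  have e3 : (3 : ℤ) ≤ wθ ∨ wθ ≤ -3 := by omega
  have e4 : (1 : ℤ) ≤ wa ∨ wa ≤ -1 := by omega
  have f1 : (9 : ℤ) ≤ wc ^ 2 := by rcases e1 with h | h <;> nlinarith
  have f2 : (9 : ℤ) ≤ wd ^ 2 := by rcases e2 with h | h <;> nlinarith
  have f3 : (9 : ℤ) ≤ wθ ^ 2 := by rcases e3 with h | h <;> nlinarith
  have f4 : (1 : ℤ) ≤ wa ^ 2 := by rcases e4 with h | h <;> nlinarith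
  have g1 : (9 : ℝ) ≤ (wc : ℝ) ^ 2 := by exact_mod_cast f1
  have g2 : (9 : ℝ) ≤ (wd : ℝ) ^ 2 := by exact_mod_cast f2
  have g3 : (9 : ℝ) ≤ (wθ : ℝ) ^ 2 := by exact_mod_cast f3
  have g4 : (1 : ℝ) ≤ (wa : ℝ) ^ 2 := by exact_mod_cast f4
  linarith

/-- An element of order 3 of the centraliser is centralised there by a group of order 6. -/
theorem card_inf_centralizer {t s : G} (ht : Central t) (hs : orderOf s = 3) (hc : Commute t s) :
    Nat.card (centralizer ({t} : Set G) ⊓ centralizer ({s} : Set G) : Subgroup G) = 6 := by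
  have hcop : (orderOf t).Coprime (orderOf s) := by rw [ht.ord, hs]; norm_num
  have hts : t * s ∈ centralizer ({t} : Set G) ⊓ centralizer ({s} : Set G) :=
    ⟨Subgroup.mem_centralizer_singleton_iff.2 ((Commute.refl t).mul_left hc.symm).eq,
      Subgroup.mem_centralizer_singleton_iff.2 (hc.mul_left (Commute.refl s)).eq⟩
  refine Nat.dvd_antisymm ?_ ?_
  · have h := Nat.dvd_gcd (ht.card ▸ Subgroup.card_dvd_of_le inf_le_left)
      (card_centralizer_three hG ht hs hc ▸ Subgroup.card_dvd_of_le inf_le_right)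
    simpa using h
  · have h := Subgroup.orderOf_dvd_natCard _ hts
    rwa [hc.orderOf_mul_eq_mul_orderOf_of_coprime hcop, ht.ord, hs] at h

/-- The shape of the centraliser of a 2-central involution. -/
theorem central_shape {t : G} (ht : Central t) :
    Nat.card (Cfsg.pCore 2 (centralizer ({t} : Set G))) = 32 ∧
      Nonempty (centralizer ({t} : Set G) ⧸ Cfsg.pCore 2 (centralizer ({t} : Set G)) ≃* Equiv.Perm (Fin 3)) := by
  classical
  set L := centralizer ({t} : Set G) with hL
  have hcard : Nat.card L = 192 := ht.card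
  obtain ⟨X⟩ : Nonempty (Sylow 3 L) := inferInstance
  have hX : Nat.card (X : Subgroup L) = 3 := by
    rw [Small.card_sylow 1 64 (by rw [hcard]; norm_num) (by norm_num) X, pow_one]
  haveI : Nontrivial (X : Subgroup L) := by rw [← Finite.one_lt_card_iff_nontrivial, hX]; norm_num
  obtain ⟨⟨s, hsX⟩, hs1'⟩ := exists_ne (1 : (X : Subgroup L))
  have hs1 : s ≠ 1 := fun h => hs1' (Subtype.ext h)
  have hXs := Small.zpowers_eq_of_prime_card hX hsX hs1
  have hs : orderOf s = 3 := by rw [← Nat.card_zpowers, hXs, hX]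
  have hs' : orderOf (s : G) = 3 := by rw [Subgroup.orderOf_coe, hs]
  have hts : Commute t (s : G) := (Subgroup.mem_centralizer_singleton_iff.1 s.2).symm
  have h6 := card_inf_centralizer hG ht hs' hts
  have hCs : Nat.card (centralizer ({s} : Set L)) = 6 := by
    have e : (centralizer ({s} : Set L)).map L.subtype = L ⊓ centralizer ({(s : G)} : Set G) := by
      ext g
      constructor
      · rintro ⟨⟨y, hy⟩, hys, rfl⟩
        exact ⟨hy, Subgroup.mem_centralizer_singleton_iff.2
          (congrArg Subtype.val (Subgroup.mem_centralizer_singleton_iff.1 hys))⟩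
      · rintro ⟨hy, hys⟩
        exact ⟨⟨g, hy⟩, Subgroup.mem_centralizer_singleton_iff.2
          (Subtype.ext (Subgroup.mem_centralizer_singleton_iff.1 hys)), rfl⟩
    rw [← h6, ← e, Subgroup.card_map_of_injective L.subtype_injective]
  have hN := Small.card_normalizer_mul X
  obtain ⟨hn, hmod⟩ := Small.sylow_facts (G := L) (p := 3) 1 64 (by rw [hcard]; norm_num) (by norm_num)
  have hCN : centralizer ({s} : Set L) ≤ Subgroup.normalizer ((X : Subgroup L) : Set L) := by
    rw [← hXs, ← Small.centralizer_zpowers]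
    exact Subgroup.centralizer_le_normalizer _
  have h6N : 6 ∣ Nat.card (Subgroup.normalizer ((X : Subgroup L) : Set L)) :=
    hCs ▸ Subgroup.card_dvd_of_le hCN
  have hrel : (centralizer ((X : Subgroup L) : Set L)).relIndex (Subgroup.normalizer ((X : Subgroup L) : Set L)) ∣ 2 :=
    Small.relIndex_centralizer_dvd (X : Subgroup L) hX
  have hN12 : Nat.card (Subgroup.normalizer ((X : Subgroup L) : Set L)) = 12 := by
    rw [← hXs, Small.centralizer_zpowers] at hrel
    rw [← hXs] at hN hCN h6N ⊢
    have h2 := Subgroup.card_mul_index ((centralizer ({s} : Set L)).subgroupOf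
      (Subgroup.normalizer ((Subgroup.zpowers s : Subgroup L) : Set L)))
    rw [Nat.card_congr (Subgroup.subgroupOfEquivOfLe hCN).toEquiv, hCs] at h2
    set N := Nat.card (Subgroup.normalizer ((Subgroup.zpowers s : Subgroup L) : Set L))
    set n := Nat.card (Sylow 3 L)
    rw [hcard] at hN
    rcases (Nat.dvd_prime Nat.prime_two).1 hrel with h | h
    · rw [show ((centralizer ({s} : Set L)).subgroupOf
        (Subgroup.normalizer ((Subgroup.zpowers s : Subgroup L) : Set L))).index = 1 from h] at h2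
      rw [← h2] at hN
      omega
    · rw [show ((centralizer ({s} : Set L)).subgroupOf
        (Subgroup.normalizer ((Subgroup.zpowers s : Subgroup L) : Set L))).index = 2 from h] at h2
      omega
  -- the Sylow 2-subgroups are three in number
  have h2facts := Small.sylow_facts (G := L) (p := 2) 6 3 (by rw [hcard]; norm_num) (by norm_num)
  have hP64 : ∀ P : Sylow 2 L, Nat.card (P : Subgroup L) = 64 := fun P => by
    rw [Small.card_sylow 6 3 (by rw [hcard]; norm_num) (by norm_num) P]; norm_num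
  have hn2 : Nat.card (Sylow 2 L) = 3 := by
    rcases (Nat.dvd_prime Nat.prime_three).1 h2facts.1 with h | h
    swap
    · exact h
    exfalso
    obtain ⟨P⟩ : Nonempty (Sylow 2 L) := inferInstance
    have hPtop : Subgroup.normalizer ((P : Subgroup L) : Set L) = ⊤ := by
      rw [← Subgroup.index_eq_one, ← h]
      exact P.card_eq_index_normalizer.symm
    haveI : (P : Subgroup L).Normal := Subgroup.normalizer_eq_top_iff.1 hPtop
    obtain ⟨n, hnN, hns⟩ : ∃ n ∈ Subgroup.normalizer ((X : Subgroup L) : Set L), n ∉ centralizer ({s} : Set L) := by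
      by_contra hno
      push Not at hno
      have := Subgroup.card_le_of_le (show Subgroup.normalizer ((X : Subgroup L) : Set L) ≤ centralizer ({s} : Set L) from hno)
      omega
    have hconj : n * s * n⁻¹ ∈ (X : Subgroup L) := (Subgroup.mem_normalizer_iff.1 hnN s).1 hsX
    have hq3 : Nat.card (L ⧸ (P : Subgroup L)) = 3 := by
      have := Subgroup.card_eq_card_quotient_mul_card_subgroup (P : Subgroup L)
      rw [hcard, hP64 P] at this
      omega
    haveI : IsCyclic (L ⧸ (P : Subgroup L)) := isCyclic_of_prime_card hq3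
    letI : CommGroup (L ⧸ (P : Subgroup L)) := IsCyclic.commGroup
    have hmem : n * s * n⁻¹ * s⁻¹ ∈ (P : Subgroup L) := by
      rw [← QuotientGroup.eq_one_iff, QuotientGroup.mk_mul, QuotientGroup.mk_mul, QuotientGroup.mk_mul,
        QuotientGroup.mk_inv, QuotientGroup.mk_inv, mul_comm (n : L ⧸ (P : Subgroup L)), mul_inv_cancel_right,
        mul_inv_cancel]
    have hmemX : n * s * n⁻¹ * s⁻¹ ∈ (X : Subgroup L) := mul_mem hconj (inv_mem hsX)
    have h1 : n * s * n⁻¹ * s⁻¹ = 1 := by
      have hdis := Subgroup.disjoint_of_coprime_natCard (H := (P : Subgroup L)) (K := (X : Subgroup L))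
        (by rw [hP64 P, hX]; norm_num)
      exact Subgroup.disjoint_def.1 hdis hmem hmemX
    rw [mul_inv_eq_one, mul_inv_eq_iff_eq_mul] at h1
    exact hns (Subgroup.mem_centralizer_singleton_iff.2 h1)
  haveI := Fintype.ofFinite (Sylow 2 L)
  set φ := MulAction.toPermHom L (Sylow 2 L) with hφ
  have htrans : ∀ P Q : Sylow 2 L, ∃ g : L, g • P = Q := fun P Q => MulAction.exists_smul_eq L P Q
  have hker2 : ∀ N : Subgroup L, N.Normal → IsPGroup 2 N → N ≤ φ.ker := by
    intro N hN hp g hg
    refine Equiv.ext fun P => ?_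
    show g • P = P
    exact Sylow.smul_eq_iff_mem_normalizer.2
      (Subgroup.le_normalizer (Core.pCore_le_sylow P (Core.le_pCore' hN hp hg)))
  -- the image is the whole symmetric group
  have himg : Nat.card φ.range ∣ 6 := by
    have : Nat.card (Equiv.Perm (Sylow 2 L)) = 6 := by
      rw [Nat.card_perm, hn2]; rfl
    exact this ▸ Subgroup.card_subgroup_dvd_card φ.range
  have h3img : 3 ∣ Nat.card φ.range := by
    obtain ⟨P⟩ : Nonempty (Sylow 2 L) := inferInstance
    have hst : Nat.card (MulAction.stabilizer L P) * 3 = 192 := by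
      rw [← hn2, ← hcard, ← Subgroup.card_mul_index (MulAction.stabilizer L P),
        MulAction.index_stabilizer_of_transitive]
    have hle : φ.ker ≤ MulAction.stabilizer L P := fun g hg => by
      have := Equiv.ext_iff.1 hg P
      exact this
    have h := Subgroup.card_dvd_of_le hle
    rw [show Nat.card (MulAction.stabilizer L P) = 64 by omega] at h
    have hk := φ.ker.card_mul_index
    rw [Subgroup.index_ker, hcard] at hk
    obtain ⟨k, hk'⟩ := (Nat.dvd_prime_pow Nat.prime_two).1 (show Nat.card φ.ker ∣ 2 ^ 6 by simpa using h)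
    have h3 : 3 ∣ Nat.card φ.ker * Nat.card φ.range := by rw [hk]; norm_num
    rcases (Nat.Prime.dvd_mul Nat.prime_three).1 h3 with h3 | h3
    · exfalso
      rw [hk'.2] at h3
      have := Nat.prime_three.dvd_of_dvd_pow h3
      norm_num at this
    · exact h3
  have h6img : Nat.card φ.range = 6 := by
    have : Nat.card φ.range = 3 ∨ Nat.card φ.range = 6 := by
      have := Nat.le_of_dvd (by norm_num) himg
      have := Nat.card_pos (α := φ.range)
      interval_cases (Nat.card φ.range) <;> omega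
    rcases this with h | h
    swap
    · exact h
    exfalso
    have hk := φ.ker.card_mul_index
    rw [Subgroup.index_ker, hcard, h] at hk
    obtain ⟨P⟩ : Nonempty (Sylow 2 L) := inferInstance
    have hp : IsPGroup 2 φ.ker := IsPGroup.of_card (n := 6) (by omega)
    have hle : φ.ker ≤ (P : Subgroup L) :=
      le_trans (Core.le_pCore' inferInstance hp) (Core.pCore_le_sylow P)
    have heq : φ.ker = (P : Subgroup L) := Subgroup.eq_of_le_of_card_ge hle (by rw [hP64 P]; omega)
    have hPn : (P : Subgroup L).Normal := heq ▸ inferInstance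
    have : Nat.card (Sylow 2 L) = 1 := by
      haveI := hPn
      haveI := Sylow.unique_of_normal P hPn
      exact Nat.card_unique
    omega
  have hk := φ.ker.card_mul_index
  rw [Subgroup.index_ker, hcard, h6img] at hk
  have hker : φ.ker = Cfsg.pCore 2 L :=
    le_antisymm (Core.le_pCore' inferInstance (IsPGroup.of_card (n := 5) (by omega)))
      (hker2 _ inferInstance (Core.pCore_isPGroup 2 L))
  refine ⟨by rw [← hker]; omega, ⟨?_⟩⟩
  have hrange : φ.range = ⊤ := Subgroup.eq_top_of_card_eq _ (by rw [h6img, Nat.card_perm, hn2]; rfl)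
  exact ((QuotientGroup.quotientMulEquivOfEq hker.symm).trans
    (QuotientGroup.quotientKerEquivOfSurjective φ (MonoidHom.range_eq_top.1 hrange))).trans
    (Equiv.permCongrHom (Finite.equivFinOfCardEq hn2))

end Cfsg.Lib.MTwelveOrder
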