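import Cfsg.Agent.Lib.MEleven.Basic
import Cfsg.Agent.Lib.Small.BlockShape

/-!
Character lemmas for a simple group: values at an involution, divisibility of central characters, a
Cauchy-Schwarz bound for a column, and rationality.
-/

set_option autoImplicit false
set_option linter.style.haveILetI false
set_option linter.unusedSectionVars false

namespace Cfsg.Lib.MTwelveOrder

open Cfsg Cfsg.Lib.Char Cfsg.Lib.Block
open scoped ComplexConjugate

universe u

variable {G : Type u} [Group G] [Fintype G]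

/-- The degree of an irreducible character. -/
scoped notation:max "cdeg " χ:max => Cfsg.charDegree (Subtype.val χ)

theorem apply_one (χ : IrrCharacter G) : (χ : G → ℂ) 1 = (cdeg χ : ℂ) := χ.2.apply_one_eq_charDegree

theorem center_eq_bot [IsSimpleGroup G] (hnc : ¬ IsCyclic G) : Subgroup.center G = ⊥ := by
  refine ((inferInstance : (Subgroup.center G).Normal).eq_bot_or_eq_top).resolve_right fun h => hnc ?_
  let _ : CommGroup G := { (inferInstance : Group G) with
    mul_comm := fun a b => (Subgroup.mem_center_iff.1 (h ▸ Subgroup.mem_top b) a) }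
  exact IsSimpleGroup.isCyclic

theorem eq_one_of_norm_eq_deg [IsSimpleGroup G] (hnc : ¬ IsCyclic G) {χ : IrrCharacter G}
    (hχ : χ ≠ trivChar G) {v : G} (hv : ‖(χ : G → ℂ) v‖ = (cdeg χ : ℝ)) : v = 1 := by
  obtain ⟨n, ρ, hρ, hc⟩ := χ.2
  haveI := hρ
  have hfr : (Module.finrank ℂ (Fin n → ℂ)) = cdeg χ := by
    have h := (congrFun hc 1).trans (apply_one χ)
    rw [Representation.char_one] at h
    exact_mod_cast h
  obtain ⟨c, hcv⟩ := (norm_character_eq_iff ρ v).1 (by rw [hc, hv, hfr])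
  have hker : ∀ g, g * v * g⁻¹ * v⁻¹ ∈ charKer χ.2.isCharacter := fun g => by
    have hcomm : ρ g * ρ v = ρ v * ρ g := by
      rw [hcv]
      exact LinearMap.ext fun w => by simp
    rw [mem_charKer, ← hc]
    show LinearMap.trace ℂ _ (ρ (g * v * g⁻¹ * v⁻¹)) = LinearMap.trace ℂ _ (ρ 1)
    have e : ρ (g * v * g⁻¹ * v⁻¹) = ρ 1 := by
      rw [map_mul ρ (g * v * g⁻¹), map_mul ρ (g * v), map_mul ρ g, hcomm, mul_assoc (ρ v), ← map_mul ρ g,
        mul_inv_cancel, map_one, mul_one, ← map_mul, mul_inv_cancel, map_one]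
    rw [e]
  rcases (charKer_normal χ.2.isCharacter).eq_bot_or_eq_top with hk | hk
  · have hcen : v ∈ Subgroup.center G := Subgroup.mem_center_iff.2 fun g => by
      have h := hker g
      rw [hk, Subgroup.mem_bot, mul_inv_eq_one, mul_inv_eq_iff_eq_mul] at h
      exact h
    rwa [center_eq_bot hnc, Subgroup.mem_bot] at hcen
  · exfalso
    have hall : ∀ g, (χ : G → ℂ) g = (χ : G → ℂ) 1 := fun g => by
      have h : g ∈ charKer χ.2.isCharacter := hk ▸ Subgroup.mem_top g
      exact h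
    have h := MEleven.sum_apply_eq_zero hχ
    simp only [hall, Finset.sum_const, Finset.card_univ, nsmul_eq_mul, mul_eq_zero, Nat.cast_eq_zero,
      Fintype.card_ne_zero, false_or] at h
    exact χ.2.apply_one_ne_zero h

/-- An involution has an integer value, congruent to the degree modulo 4 in a perfect group. -/
theorem involution_value (hperf : commutator G = ⊤) (χ : IrrCharacter G) {t : G} (ht : orderOf t = 2) :
    ∃ m : ℤ, (χ : G → ℂ) t = m ∧ (4 : ℤ) ∣ (cdeg χ : ℤ) - m ∧ m.natAbs ≤ cdeg χ := by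
  classical
  obtain ⟨n, ρ, -, hρ⟩ := χ.2
  obtain ⟨b, μ, hb, hμ⟩ := exists_eigenbasis ρ t
  rw [ht] at hμ
  have hpm : ∀ i, μ i = 1 ∨ μ i = -1 := fun i => sq_eq_one_iff.1 (hμ i)
  set A := Finset.univ.filter fun i => μ i = -1 with hA
  have hd : cdeg χ = Fintype.card (Fin (Module.finrank ℂ (Fin n → ℂ))) := by
    have h := (congrFun hρ 1).trans (apply_one χ)
    rw [Representation.char_one] at h
    rw [Fintype.card_fin]
    exact_mod_cast h.symm
  have hval : (χ : G → ℂ) t = (((cdeg χ : ℤ) - 2 * A.card : ℤ) : ℂ) := by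
    rw [← congrFun hρ t]
    show LinearMap.trace ℂ _ (ρ t) = _
    rw [trace_eq_sum_of_eigenbasis _ b μ hb]
    have e : ∀ i, μ i = 1 - 2 * (if μ i = -1 then (1 : ℂ) else 0) := fun i => by
      rcases hpm i with h | h <;> rw [h] <;> norm_num
    rw [Finset.sum_congr rfl fun i _ => e i, Finset.sum_sub_distrib, ← Finset.mul_sum, Finset.sum_boole,
      Finset.sum_const, Finset.card_univ, ← hd, nsmul_eq_mul, mul_one]
    push_cast
    rfl
  have hp := Small.prod_eigen_eq_one hperf ρ t b μ hb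
  rw [← Finset.prod_filter_mul_prod_filter_not Finset.univ (fun i => μ i = -1) μ,
    Finset.prod_congr rfl (fun i hi => (Finset.mem_filter.1 hi).2), Finset.prod_const,
    Finset.prod_eq_one (s := Finset.univ.filter fun i => ¬ μ i = -1) (fun i hi =>
      (hpm i).resolve_right (Finset.mem_filter.1 hi).2), mul_one, ← hA] at hp
  have heven : Even A.card := by
    rcases Nat.even_or_odd A.card with h | h
    · exact h
    · rw [h.neg_one_pow] at hp
      norm_num at hp
  have hle : A.card ≤ cdeg χ := hd ▸ Finset.card_le_univ A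
  refine ⟨_, hval, ?_, by omega⟩
  obtain ⟨k, hk⟩ := heven
  exact ⟨k, by omega⟩

/-- A nontrivial character is smaller than its degree at a nontrivial element. -/
theorem natAbs_lt_deg [IsSimpleGroup G] (hnc : ¬ IsCyclic G) {χ : IrrCharacter G} (hχ : χ ≠ trivChar G)
    {g : G} (hg : g ≠ 1) {m : ℤ} (hm : (χ : G → ℂ) g = m) (hle : m.natAbs ≤ cdeg χ) :
    m.natAbs < cdeg χ := by
  refine lt_of_le_of_ne hle fun h => hg (eq_one_of_norm_eq_deg hnc hχ ?_)
  have e : ((m.natAbs : ℕ) : ℝ) = |(m : ℝ)| := by rw [Nat.cast_natAbs, Int.cast_abs]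
  rw [hm, Complex.norm_intCast, ← e, h]

/-- The class of an element times an integer value is divisible by the degree. -/
theorem deg_dvd_class_mul (χ : IrrCharacter G) {g : G} {m : ℤ} (hm : (χ : G → ℂ) g = m) :
    (cdeg χ : ℤ) ∣ ((Subgroup.centralizer ({g} : Set G)).index : ℤ) * m := by
  classical
  have h := χ.2.isIntegral_class g
  rw [card_classFinset, hm, apply_one] at h
  obtain ⟨z, hz⟩ := exists_int_of_isIntegral_rat
    (q := (((Subgroup.centralizer ({g} : Set G)).index : ℤ) * m : ℚ) / (cdeg χ : ℚ)) (by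
      rw [Rat.cast_div, Rat.cast_mul, Rat.cast_natCast, Rat.cast_intCast, Rat.cast_intCast, Int.cast_natCast]
      exact h)
  refine ⟨z, ?_⟩
  have hd : (cdeg χ : ℚ) ≠ 0 := Nat.cast_ne_zero.2 (Block.charDegree_pos χ).ne'
  rw [div_eq_iff hd] at hz
  have : ((((Subgroup.centralizer ({g} : Set G)).index : ℤ) * m : ℤ) : ℚ) = ((cdeg χ * z : ℤ) : ℚ) := by
    push_cast at hz ⊢
    rw [hz, mul_comm]
  exact_mod_cast this

/-- The part of a column inside a set of characters is at most the order of the centraliser. -/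
theorem sum_sq_le (T : Finset (IrrCharacter G)) (g : G) :
    ∑ χ ∈ T, ‖(χ : G → ℂ) g‖ ^ 2 ≤ (Nat.card (Subgroup.centralizer ({g} : Set G)) : ℝ) := by
  rw [← MEleven.sum_column_normSq g]
  exact Finset.sum_le_sum_of_subset_of_nonneg (Finset.subset_univ _) fun _ _ _ => sq_nonneg _

/-- Cauchy-Schwarz for the characters outside a given set. -/
theorem column_bound (T : Finset (IrrCharacter G)) {g : G} (hg : g ≠ 1) (v : IrrCharacter G → ℤ)
    (hv : ∀ χ ∈ T, (χ : G → ℂ) g = v χ) :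
    (∑ χ ∈ T, (cdeg χ : ℤ) * v χ) ^ 2 ≤ ((Nat.card G : ℤ) - ∑ χ ∈ T, (cdeg χ : ℤ) ^ 2) *
      ((Nat.card (Subgroup.centralizer ({g} : Set G)) : ℤ) - ∑ χ ∈ T, v χ ^ 2) := by
  classical
  set U := Finset.univ \ T with hU
  have hsplit : ∀ f : IrrCharacter G → ℝ, ∑ χ ∈ U, f χ + ∑ χ ∈ T, f χ = ∑ χ, f χ := fun f => by
    rw [hU]; exact Finset.sum_sdiff (Finset.subset_univ T)
  have hA : ∑ χ ∈ U, (cdeg χ : ℝ) ^ 2 = (Nat.card G : ℝ) - ∑ χ ∈ T, (cdeg χ : ℝ) ^ 2 := by
    have h := MEleven.sum_column_normSq (1 : G)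
    have hc : Subgroup.centralizer ({(1 : G)} : Set G) = ⊤ :=
      top_le_iff.1 fun x _ => Subgroup.mem_centralizer_singleton_iff.2 (by rw [mul_one, one_mul])
    simp only [apply_one, Complex.norm_natCast] at h
    rw [hc, Nat.card_congr Subgroup.topEquiv.toEquiv] at h
    rw [← h, ← hsplit fun χ => (cdeg χ : ℝ) ^ 2]
    ring
  have hB : ∑ χ ∈ U, ‖(χ : G → ℂ) g‖ ^ 2 =
      (Nat.card (Subgroup.centralizer ({g} : Set G)) : ℝ) - ∑ χ ∈ T, (v χ : ℝ) ^ 2 := by
    rw [← MEleven.sum_column_normSq g, ← hsplit fun χ => ‖(χ : G → ℂ) g‖ ^ 2,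
      Finset.sum_congr rfl (g := fun χ => (v χ : ℝ) ^ 2) (s₁ := T) fun χ h => by
        rw [hv χ h, Complex.norm_intCast, sq_abs]]
    ring
  have hD : (((∑ χ ∈ T, (cdeg χ : ℤ) * v χ : ℤ)) : ℂ) = -∑ χ ∈ U, (cdeg χ : ℂ) * (χ : G → ℂ) g := by
    rw [eq_neg_iff_add_eq_zero, add_comm, Int.cast_sum,
      Finset.sum_congr rfl (g := fun χ => (cdeg χ : ℂ) * (χ : G → ℂ) g) (s₁ := T) fun χ h => by
        rw [hv χ h]; push_cast; rfl, hU, Finset.sum_sdiff (Finset.subset_univ T)]
    exact MEleven.sum_column_degree hg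
  have h1 : |((∑ χ ∈ T, (cdeg χ : ℤ) * v χ : ℤ) : ℝ)| ≤ ∑ χ ∈ U, (cdeg χ : ℝ) * ‖(χ : G → ℂ) g‖ := by
    rw [← Complex.norm_intCast, hD, norm_neg]
    refine (norm_sum_le _ _).trans (le_of_eq (Finset.sum_congr rfl fun χ _ => ?_))
    rw [norm_mul, Complex.norm_natCast]
  have h2 := Finset.sum_mul_sq_le_sq_mul_sq U (fun χ => (cdeg χ : ℝ)) (fun χ => ‖(χ : G → ℂ) g‖)
  rw [hA, hB] at h2
  have h3 : (((∑ χ ∈ T, (cdeg χ : ℤ) * v χ : ℤ)) : ℝ) ^ 2 ≤ (∑ χ ∈ U, (cdeg χ : ℝ) * ‖(χ : G → ℂ) g‖) ^ 2 := by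
    rw [← sq_abs (((∑ χ ∈ T, (cdeg χ : ℤ) * v χ : ℤ)) : ℝ)]
    exact pow_le_pow_left₀ (abs_nonneg _) h1 2
  have h4 := h3.trans h2
  exact_mod_cast h4

/-- A value is an integer when all irreducible characters of the same degree take it. -/
theorem rational_of_degree {χ : IrrCharacter G} {g : G}
    (h : ∀ ψ : IrrCharacter G, cdeg ψ = cdeg χ → (ψ : G → ℂ) g = (χ : G → ℂ) g) :
    ∃ m : ℤ, (χ : G → ℂ) g = m := by
  refine exists_int_of_pow_invariant χ.2.isCharacter g fun k hk => ?_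
  let ψ : IrrCharacter G := ⟨_, isIrrCharacter_comp_pow hk χ.2⟩
  have hd : cdeg ψ = cdeg χ := by
    have e := apply_one ψ
    have e' : (ψ : G → ℂ) 1 = (χ : G → ℂ) (1 ^ k) := rfl
    rw [e', one_pow, apply_one] at e
    exact_mod_cast e.symm
  exact h ψ hd

end Cfsg.Lib.MTwelveOrder
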