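import Cfsg.Agent.Lib.MTwelveOrder.Degrees

/-!
The degrees are those of M12: the other lists contradict the centraliser of an element of order 5.
Some involution is not conjugate to a 2-central one.
-/

set_option autoImplicit false
set_option linter.style.haveILetI false
set_option linter.unusedSectionVars false
set_option maxRecDepth 100000

namespace Cfsg.Lib.MTwelveOrder

open Cfsg Cfsg.Lib.Char Cfsg.Lib.Block

universe u

local instance fact_eleven_twelve : Fact (Nat.Prime 11) := ⟨by norm_num⟩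
local instance fact_three_twelve : Fact (Nat.Prime 3) := ⟨by norm_num⟩

variable {G : Type u} [Group G] [Fintype G] (hG : IsM12 G) {E : Eleven G}

include hG

theorem exists_survivor : ∃ (E : Eleven G) (T : Tup), T ∈ survivors ∧ Nonempty (Members E T) := by
  obtain ⟨E⟩ := nonempty_eleven hG
  obtain ⟨T, hT, ⟨M⟩⟩ := exists_members hG E
  obtain ⟨t, ht, hC⟩ := exists_central_involution hG
  obtain ⟨V, hV, hcol⟩ := involution_column hG M ht
  refine ⟨E, T, central_check T hT _ hC V (mem_cols ?_ (hcol (five := false) (by simp))) ?_, ⟨M⟩⟩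
  · exact Nat.le_of_dvd (by norm_num) (centralizer_dvd hG (fun e => by rw [e, orderOf_one] at ht; norm_num at ht)
      (by rw [ht]; norm_num))
  · rw [quad_eq]
    exact quad_involutions hG hV hV ht ht

omit hG in
theorem exists_order_three {W : Subgroup G} (hW : Nat.card W = 9) : ∃ s ∈ W, orderOf s = 3 := by
  obtain ⟨⟨s, hs⟩, h⟩ := exists_prime_orderOf_dvd_card' (G := W) 3 (by rw [hW]; norm_num)
  exact ⟨s, hs, by rwa [Subgroup.orderOf_mk] at h⟩

theorem five_three_order {q s : G} (hq : orderOf q = 5) (hs : orderOf s = 3) (hc : Commute q s) :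
    Nat.card (Subgroup.centralizer ({s} : Set G)) ∈ fiveThreeOrders := by
  have h8 := centralizer_dvd hG (fun e => by rw [e, orderOf_one] at hs; norm_num at hs)
    (show ¬ 11 ∣ orderOf s by rw [hs]; norm_num)
  have h9 := nine_dvd_centralizer (G := G) (by rw [hG.2]; norm_num) hs
  have h5 : 5 ∣ Nat.card (Subgroup.centralizer ({s} : Set G)) :=
    hq ▸ Subgroup.orderOf_dvd_natCard _ (Subgroup.mem_centralizer_singleton_iff.2 hc.eq)
  simp only [fiveThreeOrders, List.mem_filter, List.mem_range, decide_eq_true_eq]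
  exact ⟨Nat.lt_succ_of_le (Nat.le_of_dvd (by norm_num) h8),
    Nat.Coprime.mul_dvd_of_dvd_of_dvd (by norm_num : Nat.Coprime 5 9) h5 h9, h8⟩

/-- No member of degree 5. -/
theorem no_five {χ : IrrCharacter G} (hχ : χ ∈ E.S.Z) (hd : cdeg χ = 5)
    (hu : ∀ φ ∈ E.S.Z, cdeg φ = cdeg χ → φ = χ) : False := by
  haveI := hG.1
  have hne : χ ≠ trivChar G := fun e => by
    rw [e] at hd
    have : cdeg (trivChar G) = 1 := Small.charDegree_one'
    omega
  obtain ⟨q, hq, h⟩ := exists_five hG
  rcases h with ⟨z, hz, hc⟩ | ⟨W, hW, hWc⟩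
  · obtain ⟨m, hm, h4, hle⟩ := involution_value (perfect hG) χ hz
    have hlt := natAbs_lt_deg (not_cyclic hG) hne (fun e => by rw [e, orderOf_one] at hz; norm_num at hz) hm hle
    have h5 := five_dvd_value hG (by rw [hd]) hq hc (by rw [hz]; norm_num) hm
    omega
  · obtain ⟨s, hsW, hs⟩ := exists_order_three hW
    obtain ⟨m, hm⟩ := rational_unique hG E hχ hu (g := s) (by rw [hs]; norm_num)
    obtain ⟨h3, hlo⟩ := order_three_value χ hs hm
    have hle : m.natAbs ≤ cdeg χ := by
      have h := χ.2.isCharacter.norm_le s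
      rw [hm, Complex.norm_intCast, apply_one, Complex.natCast_re, ← Int.cast_abs, Int.abs_eq_natAbs] at h
      exact_mod_cast h
    have hlt := natAbs_lt_deg (not_cyclic hG) hne (fun e => by rw [e, orderOf_one] at hs; norm_num at hs) hm hle
    have h5 := five_dvd_value hG (by rw [hd]) hq (hWc s hsW) (by rw [hs]; norm_num) hm
    omega

/-- A member of degree 10 centralises only odd elements with an element of order 5. -/
theorem ten_subgroup {χ : IrrCharacter G} (hd : cdeg χ = 10) :
    ∃ (q : G) (W : Subgroup G), orderOf q = 5 ∧ Nat.card W = 9 ∧ ∀ w ∈ W, Commute q w := by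
  haveI := hG.1
  have hne : χ ≠ trivChar G := fun e => by
    rw [e] at hd
    have : cdeg (trivChar G) = 1 := Small.charDegree_one'
    omega
  obtain ⟨q, hq, h⟩ := exists_five hG
  rcases h with ⟨z, hz, hc⟩ | ⟨W, hW, hWc⟩
  · exfalso
    obtain ⟨m, hm, h4, hle⟩ := involution_value (perfect hG) χ hz
    have hlt := natAbs_lt_deg (not_cyclic hG) hne (fun e => by rw [e, orderOf_one] at hz; norm_num at hz) hm hle
    have h5 := five_dvd_value hG (by rw [hd]; norm_num) hq hc (by rw [hz]; norm_num) hm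
    omega
  · exact ⟨q, W, hq, hW, hWc⟩

/-- No single member of degree 10. -/
theorem no_single_ten {χ : IrrCharacter G} (hχ : χ ∈ E.S.Z) (hd : cdeg χ = 10)
    (hu : ∀ φ ∈ E.S.Z, cdeg φ = cdeg χ → φ = χ) : False := by
  haveI := hG.1
  obtain ⟨q, W, hq, hW, hWc⟩ := ten_subgroup hG hd
  refine nine_false hG E hχ hu hW (c := -5) (fun s hsW hs => ?_) (by rw [hd]; norm_num) (by rw [hd]; norm_num)
  have hne : χ ≠ trivChar G := fun e => by
    rw [e] at hd
    have : cdeg (trivChar G) = 1 := Small.charDegree_one'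
    omega
  obtain ⟨m, hm⟩ := rational_unique hG E hχ hu (g := s) (by rw [hs]; norm_num)
  obtain ⟨h3, hlo⟩ := order_three_value χ hs hm
  have hle : m.natAbs ≤ cdeg χ := by
    have h := χ.2.isCharacter.norm_le s
    rw [hm, Complex.norm_intCast, apply_one, Complex.natCast_re, ← Int.cast_abs, Int.abs_eq_natAbs] at h
    exact_mod_cast h
  have hlt := natAbs_lt_deg (not_cyclic hG) hne (fun e => by rw [e, orderOf_one] at hs; norm_num at hs) hm hle
  have h5 := five_dvd_value hG (by rw [hd]; norm_num) hq (hWc s hsW) (by rw [hs]; norm_num) hm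
  rw [hm, show m = -5 by omega]

/-- Three members of degree 10 are impossible. -/
theorem no_three_tens (M : Members E (-10, -10, -10, 45, -16)) : False := by
  classical
  haveI := hG.1
  obtain ⟨da, db, dc, dd, dθ⟩ := M.degrees
  simp only [Int.natAbs_neg, Int.natAbs_natCast] at da db dc dd dθ
  norm_num at da db dc dd dθ
  have hX : ∀ {χ}, χ ∈ E.S.X → χ ∈ E.S.Z := fun h => E.S.mem_Z.2 (Or.inr h)
  have hu45 := M.unique (χ := M.d) (by omega) (Or.inr (by omega)) (Or.inr (by omega)) (Or.inr (by omega))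
    (Or.inl rfl) (Or.inr (by omega))
  have huθ := M.unique (χ := E.S.θ) (by omega) (Or.inr (by omega)) (Or.inr (by omega)) (Or.inr (by omega))
    (Or.inr (by omega)) (Or.inl rfl)
  obtain ⟨q, W, hq, hW, hWc⟩ := ten_subgroup hG da
  refine nine_false hG E (E.S.mem_Z.2 (Or.inl rfl)) huθ hW (c := 1) (fun s hsW hs => ?_)
    (by rw [dθ]; norm_num) (by rw [dθ]; norm_num)
  have hreg : ¬ 11 ∣ orderOf s := by rw [hs]; norm_num
  have hs5 : ¬ 5 ∣ orderOf s := by rw [hs]; norm_num
  obtain ⟨w, hw⟩ := rational_unique hG E (hX M.hd) hu45 hreg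
  obtain ⟨m, hm⟩ := rational_unique hG E (E.S.mem_Z.2 (Or.inl rfl)) huθ hreg
  obtain ⟨h3w, -⟩ := order_three_value M.d hs hw
  obtain ⟨h3m, hlo⟩ := order_three_value E.S.θ hs hm
  have h5w := five_dvd_value hG (by rw [dd]; norm_num) hq (hWc s hsW) hs5 hw
  have hle : m.natAbs ≤ cdeg E.S.θ := by
    have h := E.S.θ.2.isCharacter.norm_le s
    rw [hm, Complex.norm_intCast, apply_one, Complex.natCast_re, ← Int.cast_abs, Int.abs_eq_natAbs] at h
    exact_mod_cast h
  have hlt := natAbs_lt_deg (not_cyclic hG) M.ne_θ (fun e => by rw [e, orderOf_one] at hs; norm_num at hs) hm hle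
  have h0 := E.S.rel s hreg
  rw [E.S.Z_eq, Finset.sum_insert E.S.θ_notMem, M.sumX, E.S.sign_one, hw, hm,
    (deg_of_signed (hX M.ha) M.sa).2, (deg_of_signed (hX M.hb) M.sb).2,
    (deg_of_signed (hX M.hc) M.sc).2, (deg_of_signed (hX M.hd) M.sd).2,
    (deg_of_signed (E.S.mem_Z.2 (Or.inl rfl)) M.sθ).2,
    show ((trivChar G : IrrCharacter G) : G → ℂ) s = 1 from rfl] at h0
  norm_num [sgn] at h0
  have hsum : IsIntegral ℤ (((1 + w - m : ℤ) : ℂ) / 5) := by
    have e : ((1 + w - m : ℤ) : ℂ) / 5 = (M.a : G → ℂ) s / 5 + (M.b : G → ℂ) s / 5 + (M.c : G → ℂ) s / 5 := by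
      push_cast
      linear_combination h0 / 5
    rw [e]
    exact ((five_integral hG (by rw [da]; norm_num) hq (hWc s hsW) hs5).add
      (five_integral hG (by rw [db]; norm_num) hq (hWc s hsW) hs5)).add
      (five_integral hG (by rw [dc]; norm_num) hq (hWc s hsW) hs5)
  obtain ⟨z, hz⟩ := exists_int_of_isIntegral_rat (q := ((1 + w - m : ℤ) : ℚ) / 5) (by push_cast at hsum ⊢; exact hsum)
  rw [div_eq_iff (by norm_num)] at hz
  have hz' : 1 + w - m = z * 5 := by exact_mod_cast hz
  rw [hm, show m = 1 by omega]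

/-- The list with a degree 32 and a degree 160 is impossible. -/
theorem no_other (M : Members E otherT) : False := by
  classical
  haveI := hG.1
  obtain ⟨da, db, dc, dd, dθ⟩ := M.degrees
  norm_num [otherT] at da db dc dd dθ
  obtain ⟨q, hq, h⟩ := exists_five hG
  rcases h with ⟨z, hz, hc⟩ | ⟨W, hW, hWc⟩
  · obtain ⟨V, hV, hcol⟩ := involution_column hG M hz
    have hd := centralizer_dvd hG (fun e => by rw [e, orderOf_one] at hz; norm_num at hz)
      (show ¬ 11 ∣ orderOf z by rw [hz]; norm_num)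
    have hmem : Nat.card (Subgroup.centralizer ({z} : Set G)) ∈ evenOrders := by
      simp only [evenOrders, List.mem_filter, List.mem_range, decide_eq_true_eq]
      exact ⟨Nat.lt_succ_of_le (Nat.le_of_dvd (by norm_num) hd),
        hz ▸ Subgroup.orderOf_dvd_natCard _ (Subgroup.mem_centralizer_singleton_iff.2 rfl), hd⟩
    refine other_involution_check _ hmem V
      (mem_cols (Nat.le_of_dvd (by norm_num) hd) (hcol (five := true) fun _ => ⟨q, hq, hc⟩)) ?_
    rw [quad_eq]; exact quad_involutions hG hV hV hz hz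
  · obtain ⟨s, hsW, hs⟩ := exists_order_three hW
    have hu : ∀ χ ∈ E.S.Z, χ ≠ trivChar G → ∀ φ ∈ E.S.Z, cdeg φ = cdeg χ → φ = χ := by
      intro χ hχ hne
      rcases M.cover χ hχ with rfl | rfl | rfl | rfl | rfl | rfl
      · exact absurd rfl hne
      all_goals
        apply M.unique (by omega) <;> first | exact Or.inl rfl | exact Or.inr (by omega)
    obtain ⟨V, hV, hcol⟩ := three_column hG M hs hu
    have hmem := five_three_order hG hq hs (hWc s hsW)
    have hd := centralizer_dvd hG (fun e => by rw [e, orderOf_one] at hs; norm_num at hs)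
      (show ¬ 11 ∣ orderOf s by rw [hs]; norm_num)
    refine other_three_check _ hmem V
      (mem_cols (Nat.le_of_dvd (by norm_num) hd) (hcol (five := true) fun _ => ⟨q, hq, hWc s hsW⟩)) ?_
    rw [quad_eq]
    exact count_dvd hG hV hV (by rw [hs]; norm_num) (by rw [hs]; norm_num)

/-- The block has the degrees of M12. -/
theorem nonempty_twelve : ∃ E : Eleven G, Nonempty (Members E twelveT) := by
  classical
  obtain ⟨E, T, hT, ⟨M⟩⟩ := exists_survivor hG
  obtain ⟨da, db, dc, dd, dθ⟩ := M.degrees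
  have hX : ∀ {χ}, χ ∈ E.S.X → χ ∈ E.S.Z := fun h => E.S.mem_Z.2 (Or.inr h)
  have hZθ : E.S.θ ∈ E.S.Z := E.S.mem_Z.2 (Or.inl rfl)
  simp only [survivors, List.mem_cons, List.not_mem_nil, or_false] at hT
  rcases hT with rfl | rfl | rfl | rfl | rfl | rfl | rfl | rfl | rfl | rfl
  · exact ⟨E, ⟨M⟩⟩
  · exact (no_other hG M).elim
  · exact (no_three_tens hG M).elim
  all_goals norm_num at da db dc dd dθ
  · exact (no_five hG hZθ dθ (M.unique (by omega) (Or.inr (by omega)) (Or.inr (by omega)) (Or.inr (by omega))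
      (Or.inr (by omega)) (Or.inl rfl))).elim
  · exact (no_five hG hZθ dθ (M.unique (by omega) (Or.inr (by omega)) (Or.inr (by omega)) (Or.inr (by omega))
      (Or.inr (by omega)) (Or.inl rfl))).elim
  · exact (no_single_ten hG (hX M.ha) da (M.unique (by omega) (Or.inl rfl) (Or.inr (by omega)) (Or.inr (by omega))
      (Or.inr (by omega)) (Or.inr (by omega)))).elim
  · exact (no_single_ten hG (hX M.hb) db (M.unique (by omega) (Or.inr (by omega)) (Or.inl rfl) (Or.inr (by omega))
      (Or.inr (by omega)) (Or.inr (by omega)))).elim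
  · exact (no_single_ten hG (hX M.hb) db (M.unique (by omega) (Or.inr (by omega)) (Or.inl rfl) (Or.inr (by omega))
      (Or.inr (by omega)) (Or.inr (by omega)))).elim
  · exact (no_single_ten hG (hX M.hb) db (M.unique (by omega) (Or.inr (by omega)) (Or.inl rfl) (Or.inr (by omega))
      (Or.inr (by omega)) (Or.inr (by omega)))).elim
  · exact (no_five hG hZθ dθ (M.unique (by omega) (Or.inr (by omega)) (Or.inr (by omega)) (Or.inr (by omega))
      (Or.inr (by omega)) (Or.inl rfl))).elim

theorem degrees_twelve (M : Members E twelveT) :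
    cdeg M.a = 120 ∧ cdeg M.b = 54 ∧ cdeg M.c = 45 ∧ cdeg M.d = 144 ∧ cdeg E.S.θ = 16 := by
  have h := M.degrees
  norm_num [twelveT] at h
  exact h

theorem unique_twelve (M : Members E twelveT) :
    ∀ χ ∈ E.S.Z, χ ≠ trivChar G → ∀ φ ∈ E.S.Z, cdeg φ = cdeg χ → φ = χ := by
  obtain ⟨da, db, dc, dd, dθ⟩ := degrees_twelve hG M
  intro χ hχ hne
  rcases M.cover χ hχ with rfl | rfl | rfl | rfl | rfl | rfl
  · exact absurd rfl hne
  all_goals
    apply M.unique (by omega) <;> first | exact Or.inl rfl | exact Or.inr (by omega)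

theorem even_order {t : G} (ht : orderOf t = 2) :
    Nat.card (Subgroup.centralizer ({t} : Set G)) ∈ evenOrders := by
  have hd := centralizer_dvd hG (fun e => by rw [e, orderOf_one] at ht; norm_num at ht)
    (show ¬ 11 ∣ orderOf t by rw [ht]; norm_num)
  simp only [evenOrders, List.mem_filter, List.mem_range, decide_eq_true_eq]
  exact ⟨Nat.lt_succ_of_le (Nat.le_of_dvd (by norm_num) hd),
    ht ▸ Subgroup.orderOf_dvd_natCard _ (Subgroup.mem_centralizer_singleton_iff.2 rfl), hd⟩

/-- The columns at the involutions. -/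
theorem involution_cases (M : Members E twelveT) {t : G} (ht : orderOf t = 2) :
    ∃ V, Column M t V ∧ (Nat.card (Subgroup.centralizer ({t} : Set G)), V) ∈
      ([(192, -8, 6, -3, 0, 0), (120, 0, 6, 5, 4, 4), (240, 0, 6, 5, 4, 4), (120, 0, 6, 5, -4, -4),
        (240, 0, 6, 5, -4, -4)] : List (ℕ × Tup)) := by
  obtain ⟨V, hV, hcol⟩ := involution_column hG M ht
  refine ⟨V, hV, involution_check _ (even_order hG ht) V (mem_cols ?_ (hcol (five := false) (by simp))) ?_⟩
  · exact Nat.le_of_dvd (by norm_num) (centralizer_dvd hG (fun e => by rw [e, orderOf_one] at ht; norm_num at ht)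
      (by rw [ht]; norm_num))
  · rw [quad_eq]; exact quad_involutions hG hV hV ht ht

/-- Some involution centralises an element of order 5; its centraliser has order 120 or 240. -/
theorem exists_five_involution (M : Members E twelveT) :
    ∃ z : G, orderOf z = 2 ∧ Nat.card (Subgroup.centralizer ({z} : Set G)) ≠ 192 := by
  classical
  obtain ⟨da, db, dc, dd, dθ⟩ := degrees_twelve hG M
  have hX : ∀ {χ}, χ ∈ E.S.X → χ ∈ E.S.Z := fun h => E.S.mem_Z.2 (Or.inr h)
  obtain ⟨q, hq, h⟩ := exists_five hG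
  rcases h with ⟨z, hz, hc⟩ | ⟨W, hW, hWc⟩
  · refine ⟨z, hz, fun h192 => ?_⟩
    have h5 : 5 ∣ Nat.card (Subgroup.centralizer ({z} : Set G)) :=
      hq ▸ Subgroup.orderOf_dvd_natCard _ (Subgroup.mem_centralizer_singleton_iff.2 hc.eq)
    rw [h192] at h5
    norm_num at h5
  · exfalso
    refine nine_false hG E (hX M.ha) (unique_twelve hG M _ (hX M.ha) M.ne_a) hW (c := 0) (fun s hsW hs => ?_)
      (by rw [da]; norm_num) (by rw [da]; norm_num)
    obtain ⟨V, hV, hcol⟩ := three_column hG M hs (unique_twelve hG M)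
    have hd := centralizer_dvd hG (fun e => by rw [e, orderOf_one] at hs; norm_num at hs)
      (show ¬ 11 ∣ orderOf s by rw [hs]; norm_num)
    have hcnt := count_dvd hG hV hV (show ¬ 11 ∣ orderOf s by rw [hs]; norm_num) (by rw [hs]; norm_num)
    rw [← quad_eq] at hcnt
    rw [hV.va, twelve_three_check _ (five_three_order hG hq hs (hWc s hsW)) V
      (mem_cols (Nat.le_of_dvd (by norm_num) hd) (hcol (five := true) fun _ => ⟨q, hq, hWc s hsW⟩)) hcnt.1 hcnt.2]

end Cfsg.Lib.MTwelveOrder
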